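import Mathlib

/-! Group algebras of dihedral groups, written with two coefficient functions on the cyclic part. -/

set_option autoImplicit false

namespace Cfsg.Agent.P3572

open DihedralGroup

variable {m : ℕ} [NeZero m] {R : Type} [CommRing R]

/-- The group algebra of the cyclic part. -/
abbrev AR (R : Type) [CommRing R] (m : ℕ) := AddMonoidAlgebra R (ZMod m)

/-- The group algebra of the dihedral group. -/
abbrev DR (R : Type) [CommRing R] (m : ℕ) := MonoidAlgebra R (DihedralGroup m)

/-- Element of the dihedral group algebra with given coefficients. -/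
noncomputable def ofD (f : DihedralGroup m → R) : DR R m :=
  MonoidAlgebra.ofCoeff (Finsupp.equivFunOnFinite.symm f)

/-- Element of the cyclic group algebra with given coefficients. -/
noncomputable def ofA (f : ZMod m → R) : AR R m :=
  AddMonoidAlgebra.ofCoeff (Finsupp.equivFunOnFinite.symm f)

@[simp] lemma coeff_ofD (f : DihedralGroup m → R) (x : DihedralGroup m) : (ofD f).coeff x = f x := rfl

@[simp] lemma coeff_ofA (f : ZMod m → R) (i : ZMod m) : (ofA f).coeff i = f i := rfl

lemma extD {F G : DR R m} (h : ∀ x, F.coeff x = G.coeff x) : F = G :=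
  MonoidAlgebra.coeff_injective (Finsupp.ext h)

lemma extA {X Y : AR R m} (h : ∀ i, X.coeff i = Y.coeff i) : X = Y :=
  AddMonoidAlgebra.coeff_injective (Finsupp.ext h)

lemma coeffA_mul (X Y : AR R m) (k : ZMod m) :
    (X * Y).coeff k = ∑ i, X.coeff i * Y.coeff (k - i) := by
  classical
  rw [AddMonoidAlgebra.coeff_mul, Finsupp.sum_fintype _ _ (fun i => by simp)]
  refine Finset.sum_congr rfl fun i _ => ?_
  rw [Finsupp.sum_fintype _ _ (fun j => by simp), Finset.sum_eq_single (k - i)]
  · simp
  · intro j _ hj
    rw [if_neg]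
    intro e
    exact hj (by rw [← e]; abel)
  · simp

lemma coeffD_mul (F G : DR R m) (x : DihedralGroup m) :
    (F * G).coeff x = ∑ y, F.coeff y * G.coeff (y⁻¹ * x) := by
  classical
  rw [MonoidAlgebra.coeff_mul, Finsupp.sum_fintype _ _ (fun i => by simp)]
  refine Finset.sum_congr rfl fun i _ => ?_
  rw [Finsupp.sum_fintype _ _ (fun j => by simp), Finset.sum_eq_single (i⁻¹ * x)]
  · simp
  · intro j _ hj
    rw [if_neg]
    intro e
    exact hj (by rw [← e]; group)
  · simp

/-- Sums over the dihedral group split into rotations and reflections. -/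
lemma sum_dihedral {M : Type*} [AddCommMonoid M] (f : DihedralGroup m → M) :
    ∑ x, f x = ∑ i, f (r i) + ∑ i, f (sr i) := by
  let e : ZMod m ⊕ ZMod m ≃ DihedralGroup m :=
    { toFun := Sum.elim r sr
      invFun := fun x => match x with
        | r i => Sum.inl i
        | sr i => Sum.inr i
      left_inv := fun x => by cases x <;> rfl
      right_inv := fun x => by cases x <;> rfl }
  rw [← Equiv.sum_comp e f, Fintype.sum_sum_type]
  rfl

/-- The involution induced by negation. -/
noncomputable def st : AR R m →+* AR R m where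
  toFun X := ofA fun i => X.coeff (-i)
  map_one' := extA fun i => by
    classical
    simp [AddMonoidAlgebra.one_def, AddMonoidAlgebra.coeff_single, Finsupp.single_apply, eq_comm]
  map_mul' X Y := extA fun k => by
    rw [coeff_ofA, coeffA_mul, coeffA_mul, ← Equiv.sum_comp (Equiv.neg (ZMod m))]
    refine Finset.sum_congr rfl fun i _ => ?_
    simp only [Equiv.neg_apply, coeff_ofA]
    congr 1
    congr 1
    abel
  map_zero' := extA fun i => by simp
  map_add' X Y := extA fun i => by simp

@[simp] lemma coeff_st (X : AR R m) (i : ZMod m) : (st X).coeff i = X.coeff (-i) := rfl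

@[simp] lemma st_st (X : AR R m) : st (st X) = X := extA fun i => by simp

/-- Rotation coefficients. -/
noncomputable def aP : DR R m →+ AR R m where
  toFun F := ofA fun i => F.coeff (r i)
  map_zero' := extA fun i => by simp
  map_add' F G := extA fun i => by simp

/-- Reflection coefficients. -/
noncomputable def bP : DR R m →+ AR R m where
  toFun F := ofA fun i => F.coeff (sr i)
  map_zero' := extA fun i => by simp
  map_add' F G := extA fun i => by simp

@[simp] lemma coeff_aP (F : DR R m) (i : ZMod m) : (aP F).coeff i = F.coeff (r i) := rfl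

@[simp] lemma coeff_bP (F : DR R m) (i : ZMod m) : (bP F).coeff i = F.coeff (sr i) := rfl

lemma ext_ab {F G : DR R m} (ha : aP F = aP G) (hb : bP F = bP G) : F = G := by
  refine extD fun x => ?_
  cases x with
  | r i => rw [← coeff_aP, ha, coeff_aP]
  | sr i => rw [← coeff_bP, hb, coeff_bP]

lemma aP_mul (F G : DR R m) : aP (F * G) = aP F * aP G + st (bP F) * bP G := by
  refine extA fun k => ?_
  rw [coeff_aP, coeffD_mul, sum_dihedral, AddMonoidAlgebra.coeff_add, Finsupp.add_apply, coeffA_mul,
    coeffA_mul]
  congr 1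
  · refine Finset.sum_congr rfl fun i _ => ?_
    simp [neg_add_eq_sub]
  · rw [← Equiv.sum_comp (Equiv.neg (ZMod m))]
    refine Finset.sum_congr rfl fun i _ => ?_
    simp only [Equiv.neg_apply, coeff_st, coeff_bP, inv_sr, sr_mul_r]
    congr 2
    congr 1
    abel

lemma bP_mul (F G : DR R m) : bP (F * G) = st (aP F) * bP G + bP F * aP G := by
  refine extA fun k => ?_
  rw [coeff_bP, coeffD_mul, sum_dihedral, AddMonoidAlgebra.coeff_add, Finsupp.add_apply, coeffA_mul,
    coeffA_mul]
  congr 1
  · rw [← Equiv.sum_comp (Equiv.neg (ZMod m))]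
    refine Finset.sum_congr rfl fun i _ => ?_
    simp [sub_neg_eq_add]

lemma aP_one : aP (1 : DR R m) = 1 := by
  classical
  refine extA fun i => ?_
  rw [coeff_aP, MonoidAlgebra.one_def, AddMonoidAlgebra.one_def, MonoidAlgebra.coeff_single,
    AddMonoidAlgebra.coeff_single, Finsupp.single_apply, Finsupp.single_apply]
  exact if_congr ⟨fun h => by injection h, fun h => by rw [← h]; rfl⟩ rfl rfl

lemma bP_one : bP (1 : DR R m) = 0 := by
  classical
  refine extA fun i => ?_
  rw [coeff_bP, MonoidAlgebra.one_def, MonoidAlgebra.coeff_single, Finsupp.single_apply]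
  rw [if_neg (by intro h; injection h)]
  rfl

/-- The representation over the cyclic group algebra. -/
noncomputable def mat : DR R m →+* Matrix (Fin 2) (Fin 2) (AR R m) where
  toFun F := !![aP F, st (bP F); bP F, st (aP F)]
  map_one' := by
    rw [aP_one, bP_one, map_zero, map_one, Matrix.one_fin_two]
  map_mul' F G := by
    rw [Matrix.mul_fin_two]
    ext i j : 2
    fin_cases i <;> fin_cases j <;>
      simp [aP_mul, bP_mul, map_add, map_mul, add_comm]
  map_zero' := by
    ext i j : 2
    fin_cases i <;> fin_cases j <;> simp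
  map_add' F G := by
    ext i j : 2
    fin_cases i <;> fin_cases j <;> simp

lemma mat_apply (F : DR R m) : mat F = !![aP F, st (bP F); bP F, st (aP F)] := rfl

/-- Powers of prime exponent in characteristic `p`. -/
lemma pow_odd_prime {p : ℕ} [Fact p.Prime] {n : ℕ} (hn : p = 2 * n + 1) (F : DR (ZMod p) m)
    (hs : st (aP F) = aP F) :
    aP (F ^ p) = (aP F) ^ p ∧ bP (F ^ p) = bP F * (bP F * st (bP F)) ^ n := by
  set X := aP F
  set Y := bP F
  set N : Matrix (Fin 2) (Fin 2) (AR (ZMod p) m) := !![0, st Y; Y, 0]
  have hdec : mat F = Matrix.scalar (Fin 2) X + N := by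
    rw [mat_apply, hs]
    ext i j : 2
    fin_cases i <;> fin_cases j <;> simp [N, X, Y]
  have hcomm : Commute (Matrix.scalar (Fin 2) X) N := Matrix.scalar_commute _ (Commute.all _) _
  obtain ⟨w, hw⟩ := hcomm.exists_add_pow_prime_eq (Fact.out (p := p.Prime))
  have hp0 : ((p : ℕ) : Matrix (Fin 2) (Fin 2) (AR (ZMod p) m)) = 0 := by
    have : ((p : ℕ) : AR (ZMod p) m) = 0 := by
      rw [← map_natCast (algebraMap (ZMod p) (AR (ZMod p) m)), ZMod.natCast_self, map_zero]
    rw [← map_natCast (Matrix.scalar (Fin 2)), this, map_zero]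
  rw [hp0] at hw
  simp only [zero_mul, add_zero] at hw
  have hN2 : N * N = Matrix.scalar (Fin 2) (Y * st Y) := by
    ext i j : 2
    fin_cases i <;> fin_cases j <;> simp [N, Matrix.mul_apply, Fin.sum_univ_two] <;> ring
  have hNp : N ^ p = Matrix.scalar (Fin 2) ((Y * st Y) ^ n) * N := by
    rw [congrArg (fun k => N ^ k) hn, pow_succ, pow_mul, pow_two, hN2, map_pow]
  have h := map_pow mat F p
  rw [hdec, hw, ← map_pow, hNp, mat_apply] at h
  have h00 := congrFun (congrFun h 0) 0
  have h10 := congrFun (congrFun h 1) 0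
  simp [N] at h00 h10
  exact ⟨h00, by rw [h10]; ring⟩

end Cfsg.Agent.P3572
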