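import Cfsg.Agent.P3572.Alg

/-! Primitive S-rings over dihedral groups: general facts. -/

set_option autoImplicit false

namespace Cfsg.Agent.P3572

open DihedralGroup
open scoped Classical

variable {m : ℕ} [NeZero m] {R : Type} [CommRing R]

/-- Indicator element of a set. -/
noncomputable def ind (R : Type) [CommRing R] (L : DihedralGroup m → Prop) : DR R m :=
  ofD fun x => if L x then 1 else 0

lemma coeff_ind (L : DihedralGroup m → Prop) (x : DihedralGroup m) :
    (ind R L).coeff x = if L x then 1 else 0 := rfl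

lemma coeff_ind_mul (A B : DihedralGroup m → Prop) (x : DihedralGroup m) :
    (ind R A * ind R B).coeff x = ((ind ℤ A * ind ℤ B).coeff x : R) := by
  simp only [coeffD_mul, coeff_ind, Int.cast_sum]
  exact Finset.sum_congr rfl fun y _ => by split_ifs <;> simp

/-- A primitive S-ring over the dihedral group, given by its basic sets. -/
structure SR (m : ℕ) [NeZero m] where
  rel : DihedralGroup m → DihedralGroup m → Prop
  equiv : Equivalence rel
  one : ∀ x, rel 1 x → x = 1
  inv : ∀ x y, rel x y → rel x⁻¹ y⁻¹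
  mul : ∀ F G : DR ℤ m, (∀ x y, rel x y → F.coeff x = F.coeff y) →
    (∀ x y, rel x y → G.coeff x = G.coeff y) → ∀ x y, rel x y → (F * G).coeff x = (F * G).coeff y
  prim : ∀ K : Subgroup (DihedralGroup m), (∀ x y, rel x y → (x ∈ K ↔ y ∈ K)) → K = ⊥ ∨ K = ⊤

namespace SR

variable (S : SR m)

/-- Constancy on basic sets. -/
def Inv (F : DR R m) : Prop := ∀ x y, S.rel x y → F.coeff x = F.coeff y

/-- Unions of basic sets. -/
def Union (L : DihedralGroup m → Prop) : Prop := ∀ x y, S.rel x y → (L x ↔ L y)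

lemma inv_ind {L : DihedralGroup m → Prop} (hL : S.Union L) : S.Inv (ind R L) := fun x y h => by
  simp [coeff_ind, hL x y h]

lemma union_class (v : DihedralGroup m) : S.Union (fun x => S.rel v x) := fun x y h =>
  ⟨fun h' => S.equiv.trans h' h, fun h' => S.equiv.trans h' (S.equiv.symm h)⟩

lemma union_inv {L : DihedralGroup m → Prop} (hL : S.Union L) : S.Union (fun x => L x⁻¹) :=
  fun x y h => hL _ _ (S.inv x y h)

lemma union_eq {F : DR R m} (hF : S.Inv F) (c : R) : S.Union (fun x => F.coeff x = c) :=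
  fun x y h => by simp [hF x y h]

lemma inv_zero : S.Inv (0 : DR R m) := fun _ _ _ => rfl

lemma inv_add {F G : DR R m} (hF : S.Inv F) (hG : S.Inv G) : S.Inv (F + G) := fun x y h => by
  simp [hF x y h, hG x y h]

lemma inv_sub {F G : DR R m} (hF : S.Inv F) (hG : S.Inv G) : S.Inv (F - G) := fun x y h => by
  simp [hF x y h, hG x y h]

lemma inv_smul {F : DR R m} (c : R) (hF : S.Inv F) : S.Inv (c • F) := fun x y h => by
  simp [hF x y h]

lemma inv_ofD {f : DihedralGroup m → R} (hf : ∀ x y, S.rel x y → f x = f y) : S.Inv (ofD f) := hf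

lemma inv_const (c : R) : S.Inv (ofD fun _ : DihedralGroup m => c) := fun _ _ _ => rfl

lemma inv_one : S.Inv (1 : DR R m) := fun x y h => by
  rw [MonoidAlgebra.one_def, MonoidAlgebra.coeff_single, Finsupp.single_apply, Finsupp.single_apply]
  refine if_congr ⟨fun e => ?_, fun e => ?_⟩ rfl rfl
  · exact (S.one y (e.symm ▸ h)).symm
  · exact (S.one x (e.symm ▸ S.equiv.symm h)).symm

/-- The setoid of basic sets. -/
def setoid : Setoid (DihedralGroup m) := ⟨S.rel, S.equiv⟩

lemma inv_mul {F G : DR R m} (hF : S.Inv F) (hG : S.Inv G) : S.Inv (F * G) := by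
  let _ := S.setoid
  let Q := Quotient S.setoid
  have hexp : ∀ {F : DR R m}, S.Inv F →
      F = ∑ c : Q, F.coeff c.out • ind R (fun y => Quotient.mk S.setoid y = c) := by
    intro F hF
    refine extD fun y => ?_
    rw [MonoidAlgebra.coeff_sum, Finsupp.finsetSum_apply,
      Finset.sum_eq_single (Quotient.mk S.setoid y)]
    · rw [MonoidAlgebra.coeff_smul_apply, coeff_ind, if_pos rfl, smul_eq_mul, mul_one]
      exact (hF _ _ (Quotient.exact (Quotient.out_eq (Quotient.mk S.setoid y)))).symm
    · intro c _ hc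
      rw [MonoidAlgebra.coeff_smul_apply, coeff_ind, if_neg (Ne.symm hc), smul_zero]
    · simp
  have hbase : ∀ c d : Q, S.Inv (ind R (fun y => Quotient.mk S.setoid y = c) *
      ind R (fun y => Quotient.mk S.setoid y = d)) := by
    intro c d x y h
    rw [coeff_ind_mul (R := R) _ _ x, coeff_ind_mul (R := R) _ _ y]
    have hu : ∀ e : Q, S.Union (fun y => Quotient.mk S.setoid y = e) := fun e a b hab => by
      simp only [Quotient.sound (show S.setoid.r a b from hab)]
    exact congrArg (Int.cast : ℤ → R)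
      (S.mul _ _ (S.inv_ind (R := ℤ) (hu c)) (S.inv_ind (R := ℤ) (hu d)) x y h)
  intro x y h
  rw [hexp hF, hexp hG, Finset.sum_mul_sum]
  simp only [MonoidAlgebra.coeff_sum, Finsupp.finsetSum_apply, smul_mul_smul_comm,
    MonoidAlgebra.coeff_smul_apply]
  exact Finset.sum_congr rfl fun c _ => Finset.sum_congr rfl fun d _ => by rw [hbase c d x y h]

lemma inv_pow {F : DR R m} (hF : S.Inv F) (k : ℕ) : S.Inv (F ^ k) := by
  induction k with
  | zero => rw [pow_zero]; exact S.inv_one
  | succ k ih => rw [pow_succ]; exact S.inv_mul ih hF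

/-- A union of basic sets with nontrivial stabiliser is trivial. -/
lemma stab {L : DihedralGroup m → Prop} (hL : S.Union L) {z : DihedralGroup m} (hz : z ≠ 1)
    (hLz : ∀ x, L x → L (z * x)) : (∀ x, L x) ∨ ∀ x, ¬ L x := by
  set P := ind ℤ L * ind ℤ (fun x => L x⁻¹)
  have hcoef : ∀ g, P.coeff g = ((Finset.univ.filter fun y => L y ∧ L (g⁻¹ * y)).card : ℤ) := by
    intro g
    simp only [P, coeffD_mul, coeff_ind, mul_inv_rev, inv_inv, Finset.card_filter]
    push_cast
    exact Finset.sum_congr rfl fun y _ => by split_ifs <;> simp_all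
  have hiff : ∀ g, P.coeff g⁻¹ = ((Finset.univ.filter fun y => L y).card : ℤ) ↔
      ∀ y, L y → L (g * y) := by
    intro g
    rw [hcoef, inv_inv, Nat.cast_inj]
    constructor
    · intro h y hy
      have := Finset.eq_of_subset_of_card_le
        (fun a ha => by simp at ha ⊢; exact ha.1) h.ge
      have hy' : y ∈ Finset.univ.filter fun y => L y := by simp [hy]
      rw [← this] at hy'
      simp at hy'
      exact hy'.2
    · intro h
      congr 1
      ext y
      simpa using h y
  have hmul : ∀ a b : DihedralGroup m, (∀ y, L y → L (a * y)) → (∀ y, L y → L (b * y)) →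
      ∀ y, L y → L (a * b * y) := fun a b ha hb y hy => by rw [mul_assoc]; exact ha _ (hb y hy)
  let K : Subgroup (DihedralGroup m) :=
    { carrier := {g | ∀ y, L y → L (g * y)}
      one_mem' := fun y hy => by rwa [one_mul]
      mul_mem' := fun {a b} ha hb => hmul a b ha hb
      inv_mem' := fun {g} hg => by
        have hp : ∀ k : ℕ, ∀ y, L y → L (g ^ k * y) := by
          intro k
          induction k with
          | zero => simp
          | succ k ih => rw [pow_succ']; exact hmul _ _ hg ih
        have hd : g⁻¹ = g ^ (orderOf g - 1) := by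
          rw [inv_eq_iff_mul_eq_one, ← pow_succ', Nat.sub_add_cancel (orderOf_pos g), pow_orderOf_eq_one]
        show ∀ y, L y → L (g⁻¹ * y)
        rw [hd]
        exact hp _ }
  have hK : ∀ x y, S.rel x y → (x ∈ K ↔ y ∈ K) := by
    intro x y h
    show (∀ y, L y → L (x * y)) ↔ ∀ a, L a → L (y * a)
    rw [← hiff, ← hiff, S.mul _ _ (S.inv_ind hL) (S.inv_ind (S.union_inv hL)) _ _ (S.inv x y h)]
  rcases S.prim K hK with h | h
  · exfalso
    have : z ∈ K := hLz
    rw [h, Subgroup.mem_bot] at this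
    exact hz this
  · by_cases hne : ∃ x, L x
    · obtain ⟨x, hx⟩ := hne
      refine Or.inl fun y => ?_
      have : y * x⁻¹ ∈ K := h ▸ Subgroup.mem_top _
      simpa using this x hx
    · exact Or.inr fun x hx => hne ⟨x, hx⟩

/-- No nontrivial basic set lies in a proper subgroup. -/
lemma contained (W : Subgroup (DihedralGroup m)) (hW : W ≠ ⊤) {x : DihedralGroup m}
    (h : ∀ y, S.rel x y → y ∈ W) : x = 1 := by
  set L : DihedralGroup m → Prop := fun x => ∀ y, S.rel x y → y ∈ W
  have hL : S.Union L := fun a b hab =>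
    ⟨fun ha y hy => ha y (S.equiv.trans hab hy), fun hb y hy => hb y (S.equiv.trans (S.equiv.symm hab) hy)⟩
  let K : Subgroup (DihedralGroup m) :=
    { carrier := {x | L x}
      one_mem' := fun y hy => by rw [S.one y hy]; exact one_mem W
      mul_mem' := fun {a b} ha hb y hy => by
        have hne : (ind ℤ L * ind ℤ L).coeff (a * b) ≠ 0 := by
          rw [coeffD_mul]
          refine (Finset.sum_pos' (fun y _ => ?_) ⟨a, Finset.mem_univ a, ?_⟩).ne'
          · simp only [coeff_ind]; split_ifs <;> norm_num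
          · have ha' : L a := ha
            have hb' : L b := hb
            simp [coeff_ind, ha', hb']
        rw [S.mul _ _ (S.inv_ind hL) (S.inv_ind hL) _ _ hy, coeffD_mul] at hne
        obtain ⟨c, -, hc⟩ := Finset.exists_ne_zero_of_sum_ne_zero hne
        simp only [coeff_ind, ne_eq, mul_eq_zero, not_or, ite_eq_right_iff, one_ne_zero, imp_false,
          not_not] at hc
        have := mul_mem (hc.1 c (S.equiv.refl c)) (hc.2 _ (S.equiv.refl _))
        rwa [mul_inv_cancel_left] at this
      inv_mem' := fun {a} ha y hy => by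
        have := S.inv _ _ hy
        rw [inv_inv] at this
        simpa using inv_mem (ha _ this) }
  rcases S.prim K hL with h' | h'
  · have : x ∈ K := h
    rwa [h', Subgroup.mem_bot] at this
  · refine absurd (top_le_iff.1 fun y _ => ?_) hW
    have : y ∈ K := h' ▸ Subgroup.mem_top y
    exact this y (S.equiv.refl y)

/-- The subgroup of rotations. -/
def rot (m : ℕ) : Subgroup (DihedralGroup m) where
  carrier := {x | ∃ i, x = r i}
  one_mem' := ⟨0, rfl⟩
  mul_mem' := fun {a b} ⟨i, hi⟩ ⟨j, hj⟩ => ⟨i + j, by rw [hi, hj, r_mul_r]⟩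
  inv_mem' := fun {a} ⟨i, hi⟩ => ⟨-i, by rw [hi, inv_r]⟩

lemma meets_sr {x : DihedralGroup m} (hx : x ≠ 1) : ∃ i, S.rel x (sr i) := by
  by_contra hne
  refine hx (S.contained (rot m) (fun h => ?_) fun y hy => ?_)
  · obtain ⟨i, hi⟩ : sr 0 ∈ rot m := h ▸ Subgroup.mem_top _
    injection hi
  · cases y with
    | r i => exact ⟨i, rfl⟩
    | sr i => exact absurd ⟨i, hy⟩ hne

lemma selfinv (x : DihedralGroup m) : S.rel x x⁻¹ := by
  by_cases hx : x = 1
  · rw [hx, _root_.inv_one]; exact S.equiv.refl 1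
  obtain ⟨i, hi⟩ := S.meets_sr hx
  have := S.inv _ _ hi
  rw [inv_sr] at this
  exact S.equiv.trans hi (S.equiv.symm this)

lemma meets_r (hm : 2 ≤ m) (x : DihedralGroup m) : ∃ i, S.rel x (r i) := by
  by_cases hx : x = 1
  · exact ⟨0, hx ▸ S.equiv.refl 1⟩
  by_contra hne
  set L : DihedralGroup m → Prop := fun y => S.rel x y
  have hL := S.union_class x
  have hsr : ∀ y, L y → ∃ i, y = sr i := fun y hy => by
    cases y with
    | r i => exact absurd ⟨i, hy⟩ hne
    | sr i => exact ⟨i, rfl⟩
  have hsingle : ∀ y, L y → y = x := by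
    intro y hy
    by_contra hyx
    have hprod : x * y ≠ 1 := fun e => by
      obtain ⟨i, rfl⟩ := hsr x (S.equiv.refl x)
      exact hyx (by rw [eq_inv_of_mul_eq_one_right e, inv_sr])
    obtain ⟨k, hk⟩ := S.meets_sr hprod
    have hne0 : (ind ℤ L * ind ℤ L).coeff (x * y) ≠ 0 := by
      rw [coeffD_mul]
      refine (Finset.sum_pos' (fun y _ => ?_) ⟨x, Finset.mem_univ x, ?_⟩).ne'
      · simp only [coeff_ind]; split_ifs <;> norm_num
      · have : L x := S.equiv.refl x
        simp [coeff_ind, this, hy]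
    rw [S.mul _ _ (S.inv_ind hL) (S.inv_ind hL) _ _ hk, coeffD_mul] at hne0
    obtain ⟨c, -, hc⟩ := Finset.exists_ne_zero_of_sum_ne_zero hne0
    simp only [coeff_ind, ne_eq, mul_eq_zero, not_or, ite_eq_right_iff, one_ne_zero, imp_false,
      not_not] at hc
    obtain ⟨a, rfl⟩ := hsr c hc.1
    obtain ⟨b, hb⟩ := hsr _ hc.2
    rw [inv_sr, sr_mul_sr] at hb
    injection hb
  obtain ⟨i, rfl⟩ := hsr x (S.equiv.refl x)
  let K : Subgroup (DihedralGroup m) := Subgroup.zpowers (sr i)
  have hmem : ∀ y, y ∈ K ↔ y = 1 ∨ y = sr i := by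
    intro y
    constructor
    · rintro ⟨k, rfl⟩
      rcases Int.even_or_odd k with ⟨l, rfl⟩ | ⟨l, rfl⟩
      · left; simp [← two_mul, zpow_mul, zpow_two, zpow_ofNat, pow_two]
      · right; simp [zpow_add, zpow_mul, zpow_two, zpow_ofNat, pow_two]
    · rintro (rfl | rfl)
      · exact one_mem K
      · exact Subgroup.mem_zpowers _
  have hU : ∀ a b, S.rel a b → (a ∈ K → b ∈ K) := by
    intro a b h ha
    rw [hmem] at ha ⊢
    rcases ha with rfl | rfl
    · exact Or.inl (S.one b h)
    · exact Or.inr (hsingle b h)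
  rcases S.prim K (fun a b h => ⟨hU a b h, hU b a (S.equiv.symm h)⟩) with h | h
  · have : sr i ∈ K := Subgroup.mem_zpowers _
    rw [h, Subgroup.mem_bot] at this
    exact hx this
  · have : r 1 ∈ K := h ▸ Subgroup.mem_top _
    rcases (hmem _).1 this with e | e
    · have : Fact (1 < m) := ⟨hm⟩
      rw [DihedralGroup.one_def] at e
      injection e with e'
      exact one_ne_zero e'
    · injection e

lemma coeff_inv {F : DR R m} (hF : S.Inv F) (x : DihedralGroup m) : F.coeff x⁻¹ = F.coeff x :=
  (hF _ _ (S.selfinv x)).symm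

lemma comm {F G : DR R m} (hF : S.Inv F) (hG : S.Inv G) : F * G = G * F := by
  refine extD fun x => ?_
  rw [← S.coeff_inv (S.inv_mul hG hF) x, coeffD_mul, coeffD_mul,
    ← Equiv.sum_comp (Equiv.mulLeft x)]
  refine Finset.sum_congr rfl fun y _ => ?_
  simp only [Equiv.coe_mulLeft]
  rw [show (x * y)⁻¹ * x = y⁻¹ by group, S.coeff_inv hG,
    show y⁻¹ * x⁻¹ = (x * y)⁻¹ by group, S.coeff_inv hF, mul_comm]

lemma st_aP {F : DR R m} (hF : S.Inv F) : st (aP F) = aP F := extA fun i => by
  rw [coeff_st, coeff_aP, coeff_aP, ← inv_r, S.coeff_inv hF]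

lemma eq_of_aP (hm : 2 ≤ m) {F G : DR R m} (hF : S.Inv F) (hG : S.Inv G) (h : aP F = aP G) :
    F = G := by
  refine extD fun x => ?_
  obtain ⟨i, hi⟩ := S.meets_r hm x
  rw [hF _ _ hi, hG _ _ hi, ← coeff_aP, h, coeff_aP]

end SR

end Cfsg.Agent.P3572
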