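import Cfsg.Agent.P3572.Square

/-! Basic sets and the order modulo an odd prime. -/

set_option autoImplicit false

namespace Cfsg.Agent.P3572

open DihedralGroup
open scoped Classical

variable {m : ℕ} [NeZero m] {p : ℕ} [hp : Fact p.Prime] {S : SR m}

/-- Order prime to `p`. -/
def Preg (p : ℕ) (i : ZMod m) : Prop := ¬ p ∣ addOrderOf i

lemma addOrderOf_smul_zp_eq (hpm : p ∣ m) {o : ℕ} (ho : p ∣ o) (j : ℕ) : o • (j • zp m p) = 0 := by
  obtain ⟨c, rfl⟩ := ho
  rw [← mul_nsmul, mul_comm j, mul_assoc, mul_nsmul, p_smul_zp hpm, nsmul_zero]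

lemma order_eq_of_coset (hpm : p ∣ m) {i : ZMod m} (j : ℕ) (hi : ¬ Preg p i)
    (hi' : ¬ Preg p (i + j • zp m p)) : addOrderOf i = addOrderOf (i + j • zp m p) := by
  refine Nat.dvd_antisymm ?_ ?_
  · apply addOrderOf_dvd_of_nsmul_eq_zero
    have := addOrderOf_nsmul_eq_zero (i + j • zp m p)
    rwa [nsmul_add, addOrderOf_smul_zp_eq hpm (not_not.1 hi'), add_zero] at this
  · apply addOrderOf_dvd_of_nsmul_eq_zero
    rw [nsmul_add, addOrderOf_smul_zp_eq hpm (not_not.1 hi), add_zero, addOrderOf_nsmul_eq_zero]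

lemma preg_zero : Preg p (0 : ZMod m) := by
  simp [Preg, hp.out.ne_one]

lemma not_preg_add (hpm : p ∣ m) {h : ZMod m} (hh : Preg p h) {x : ZMod m} (hx : p • x = 0)
    (hx0 : x ≠ 0) : ¬ Preg p (h + x) := by
  intro hc
  have : (addOrderOf h * addOrderOf (h + x)) • x = 0 := by
    have e1 : (addOrderOf h * addOrderOf (h + x)) • h = 0 := by
      rw [mul_nsmul, addOrderOf_nsmul_eq_zero, nsmul_zero]
    have e2 : (addOrderOf h * addOrderOf (h + x)) • (h + x) = 0 := by
      rw [mul_comm, mul_nsmul, addOrderOf_nsmul_eq_zero, nsmul_zero]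
    rwa [nsmul_add, e1, zero_add] at e2
  have h2 := addOrderOf_dvd_of_nsmul_eq_zero this
  rw [addOrderOf_smul_zp hpm hx hx0] at h2
  rcases hp.out.dvd_mul.1 h2 with h3 | h3
  · exact hh h3
  · exact hc h3

lemma not_preg_zp (hpm : p ∣ m) : ¬ Preg p (zp m p) := by
  simp [Preg, addOrderOf_zp hpm]

lemma not_preg_add_zp (hpm : p ∣ m) {h : ZMod m} (hh : Preg p h) : ¬ Preg p (h + zp m p) :=
  not_preg_add hpm hh (p_smul_zp hpm) (zp_ne_zero hpm)

lemma Preg.order_smul {h : ZMod m} (hh : Preg p h) : addOrderOf (p • h) = addOrderOf h :=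
  Nat.Coprime.addOrderOf_nsmul ((Nat.Prime.coprime_iff_not_dvd hp.out).2 hh).symm

lemma Preg.smul {h : ZMod m} (hh : Preg p h) : Preg p (p • h) := by
  rw [Preg, Preg.order_smul hh]; exact hh

lemma Preg.order_add (hpm : p ∣ m) {h : ZMod m} (hh : Preg p h) :
    addOrderOf (h + zp m p) = addOrderOf h * p := by
  conv_rhs => rw [← addOrderOf_zp (m := m) hpm]
  refine (AddCommute.all h (zp m p)).addOrderOf_add_eq_mul_addOrderOf_of_coprime ?_
  rw [addOrderOf_zp hpm]
  exact ((Nat.Prime.coprime_iff_not_dvd hp.out).2 hh).symm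

lemma rel_of_smul_eq (hS : S.Rational) (hpm : p ∣ m) {i i' : ZMod m} (h : p • i = p • i')
    (hi : ¬ Preg p i) (hi' : ¬ Preg p i') : S.rel (r i) (r i') := by
  obtain ⟨j, -, rfl⟩ := exists_of_smul_eq hpm h.symm
  exact hS.rel_of_order (order_eq_of_coset hpm j hi hi')

/-- Companions of rotations of order prime to `p` are well defined. -/
lemma special (hS : S.Rational) (hm : 2 ≤ m) (hpm : p ∣ m) {n : ℕ} (hn : p = 2 * n + 1) {h i : ZMod m}
    (hh : Preg p h) (hne : ¬ S.rel (r h) (r (h + zp m p))) (hi : S.rel (r h) (r i)) :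
    Preg p i ∧ S.rel (r (h + zp m p)) (r (i + zp m p)) := by
  set V : DihedralGroup m → Prop := fun g => S.rel (r (h + zp m p)) g
  set F := ind (ZMod p) V
  have hF : S.Inv F := S.inv_ind (S.union_class _)
  have hco : ∀ k, (F ^ p).coeff (r k) =
      ∑ x ∈ Finset.univ.filter (fun x => p • x = k), F.coeff (r x) := by
    intro k
    rw [← coeff_aP, (pow_odd_prime hn F (S.st_aP hF)).1, coeff_pow_prime]
    rfl
  have hh' : ¬ V (r h) := fun e => hne (S.equiv.symm e)
  have hsum : (F ^ p).coeff (r (p • h)) = -1 := by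
    rw [hco]
    have hmem : h ∈ fib p h := by simp [fib]
    show ∑ x ∈ fib p h, F.coeff (r x) = -1
    rw [← Finset.add_sum_erase _ _ hmem, coeff_ind, if_neg hh', zero_add,
      Finset.sum_congr rfl (fun x hx => show F.coeff (r x) = (1 : ZMod p) from ?_), Finset.sum_const,
      Finset.card_erase_of_mem hmem, card_fib hpm, nsmul_eq_mul, Nat.cast_sub hp.out.one_le,
      ZMod.natCast_self]
    · simp
    · rw [Finset.mem_erase] at hx
      simp only [fib, Finset.mem_filter, Finset.mem_univ, true_and] at hx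
      rw [coeff_ind, if_pos]
      refine rel_of_smul_eq hS hpm ?_ (not_preg_add_zp hpm hh) ?_
      · rw [nsmul_add, p_smul_zp hpm, add_zero, hx.2]
      · rw [show x = h + (x - h) by abel]
        exact not_preg_add hpm hh (by rw [nsmul_sub, hx.2, sub_self]) (sub_ne_zero.2 hx.1)
  rw [S.inv_pow hF p _ _ (S.equiv.trans (S.equiv.symm (hS.rel_of_order hh.order_smul.symm)) hi)] at hsum
  have h10 : (-1 : ZMod p) ≠ 0 := by simp
  have h11 : (-1 : ZMod p) ≠ 1 := by
    intro e
    have h2 : ((2 : ℕ) : ZMod p) = 0 := by push_cast; linear_combination -e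
    rw [ZMod.natCast_eq_zero_iff] at h2
    have := Nat.le_of_dvd (by norm_num) h2
    have := hp.out.two_le
    omega
  rw [hco] at hsum
  obtain ⟨k, hk, hkne⟩ := Finset.exists_ne_zero_of_sum_ne_zero (hsum.symm ▸ h10)
  simp only [Finset.mem_filter, Finset.mem_univ, true_and] at hk
  subst hk
  have hkV : V (r k) := by
    by_contra hc
    exact hkne (by rw [coeff_ind, if_neg hc])
  by_cases hex : ∃ h' ∈ fib p k, Preg p h'
  · obtain ⟨h', hh'f, hh'r⟩ := hex
    simp only [fib, Finset.mem_filter, Finset.mem_univ, true_and] at hh'f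
    have hpi : Preg p (p • k) := hh'f ▸ hh'r.smul
    refine ⟨hpi, ?_⟩
    have hrel2 : S.rel (r (h' + zp m p)) (r (p • k + zp m p)) := hS.rel_of_order (by
      rw [hh'r.order_add hpm, hpi.order_add hpm, ← hh'f, hh'r.order_smul])
    refine S.equiv.trans ?_ hrel2
    by_contra hc
    have hmem : h' ∈ fib p k := Finset.mem_filter.2 ⟨Finset.mem_univ _, hh'f⟩
    have hrest : ∀ x ∈ (fib p k).erase h', F.coeff (r x) = 0 := by
      intro x hx
      rw [Finset.mem_erase] at hx
      simp only [fib, Finset.mem_filter, Finset.mem_univ, true_and] at hx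
      rw [coeff_ind, if_neg]
      intro hV
      apply hc
      refine S.equiv.trans hV (rel_of_smul_eq hS hpm ?_ ?_ (not_preg_add_zp hpm hh'r))
      · rw [nsmul_add, p_smul_zp hpm, add_zero, hx.2, hh'f]
      · rw [show x = h' + (x - h') by abel]
        exact not_preg_add hpm hh'r (by rw [nsmul_sub, hx.2, hh'f, sub_self]) (sub_ne_zero.2 hx.1)
    change ∑ x ∈ fib p k, F.coeff (r x) = -1 at hsum
    rw [← Finset.add_sum_erase _ _ hmem, Finset.sum_eq_zero hrest, add_zero, coeff_ind] at hsum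
    split_ifs at hsum
    · exact h11 hsum.symm
    · exact h10 hsum.symm
  · exfalso
    simp only [not_exists, not_and] at hex
    apply h10
    rw [← hsum]
    change ∑ x ∈ fib p k, F.coeff (r x) = 0
    rw [Finset.sum_congr rfl (fun x hx => show F.coeff (r x) = (1 : ZMod p) from ?_), Finset.sum_const,
      card_fib hpm, nsmul_eq_mul, ZMod.natCast_self, zero_mul]
    rw [coeff_ind, if_pos]
    refine S.equiv.trans hkV (rel_of_smul_eq hS hpm ?_ (hex k (by simp [fib])) (hex x hx))
    simp only [fib, Finset.mem_filter, Finset.mem_univ, true_and] at hx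
    exact hx.symm

/-- Every rotation of order divisible by `p` lies in the basic set of the element of order `p`. -/
theorem rel_zp (hS : S.Rational) (hm : 2 ≤ m) (hpm : p ∣ m) {n : ℕ} (hn : p = 2 * n + 1) {i0 : ZMod m}
    (hi0 : ¬ Preg p i0) : S.rel (r i0) (r (zp m p)) := by
  by_contra hcon
  set σ : ZMod m → ZMod m := fun i => if Preg p i then i + zp m p else i
  have hσ : ∀ i i', S.rel (r i) (r i') → S.rel (r (σ i)) (r (σ i')) := by
    intro i i' h
    by_cases h1 : Preg p i ∧ ¬ S.rel (r i) (r (i + zp m p))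
    · obtain ⟨h2, h3⟩ := special hS hm hpm hn h1.1 h1.2 h
      simpa [σ, h1.1, h2] using h3
    by_cases h1' : Preg p i' ∧ ¬ S.rel (r i') (r (i' + zp m p))
    · obtain ⟨h2, h3⟩ := special hS hm hpm hn h1'.1 h1'.2 (S.equiv.symm h)
      simpa [σ, h1'.1, h2] using S.equiv.symm h3
    have key : ∀ i, ¬ (Preg p i ∧ ¬ S.rel (r i) (r (i + zp m p))) → S.rel (r i) (r (σ i)) := by
      intro i hni
      by_cases hP : Preg p i
      · simp only [σ, hP, if_true]
        by_contra hc
        exact hni ⟨hP, hc⟩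
      · simp only [σ, hP, if_false]
        exact S.equiv.refl _
    exact S.equiv.trans (S.equiv.symm (key i h1)) (S.equiv.trans h (key i' h1'))
  have hper : ∀ i, S.rel (r (σ i)) (r (σ (i + zp m p))) := by
    intro i
    have hsm : p • (i + zp m p) = p • i := by rw [nsmul_add, p_smul_zp hpm, add_zero]
    by_cases h1 : Preg p i
    · simp only [σ, h1, not_preg_add_zp hpm h1, if_true, if_false]
      exact S.equiv.refl _
    by_cases h2 : Preg p (i + zp m p)
    · simp only [σ, h1, h2, if_true, if_false]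
      exact rel_of_smul_eq hS hpm (by rw [nsmul_add, p_smul_zp hpm, add_zero, hsm]) h1
        (not_preg_add_zp hpm h2)
    · simp only [σ, h1, h2, if_false]
      exact rel_of_smul_eq hS hpm hsm.symm h1 h2
  set B : DihedralGroup m → Prop := fun g => ∃ i, S.rel g (r i) ∧ S.rel (r (σ i)) (r i0)
  have hB : S.Union B := fun x y h =>
    ⟨fun ⟨i, h1, h2⟩ => ⟨i, S.equiv.trans (S.equiv.symm h) h1, h2⟩,
      fun ⟨i, h1, h2⟩ => ⟨i, S.equiv.trans h h1, h2⟩⟩
  have hBr : ∀ i, B (r i) ↔ S.rel (r (σ i)) (r i0) := fun i =>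
    ⟨fun ⟨j, h1, h2⟩ => S.equiv.trans (hσ i j h1) h2, fun h => ⟨i, S.equiv.refl _, h⟩⟩
  have hB1 : ¬ B 1 := by
    rw [DihedralGroup.one_def, hBr]
    simp only [σ, preg_zero, if_true, zero_add]
    exact fun h => hcon (S.equiv.symm h)
  have hB0 : B (r i0) := by
    rw [hBr]
    simp only [σ, hi0, if_false]
    exact S.equiv.refl _
  refine hS.periodic_rot_false hm hpm hn hB hB1 ⟨_, hB0⟩ fun i => ?_
  rw [hBr, hBr]
  exact ⟨fun h => S.equiv.trans (hper i) h, fun h => S.equiv.trans (S.equiv.symm (hper i)) h⟩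

end Cfsg.Agent.P3572
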