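import Cfsg.Agent.P3572.Blocks

/-! A character of order `p` evaluated on S-ring elements. -/

set_option autoImplicit false

namespace Cfsg.Agent.P3572

open DihedralGroup
open scoped Classical ComplexConjugate

variable {m : ℕ} [NeZero m] {p : ℕ} [hp : Fact p.Prime] {S : SR m} {R : Type} [CommRing R]

/-- A character of order `p` of the rotations. -/
noncomputable def psi (hpm : p ∣ m) : AddChar (ZMod m) ℂ :=
  (ZMod.stdAddChar (N := p)).compAddMonoidHom (ZMod.castHom hpm (ZMod p)).toAddMonoidHom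

lemma psi_apply (hpm : p ∣ m) (i : ZMod m) :
    psi hpm i = ZMod.stdAddChar (ZMod.castHom hpm (ZMod p) i) := rfl

lemma castHom_of_preg (hpm : p ∣ m) {i : ZMod m} (hi : Preg p i) :
    ZMod.castHom hpm (ZMod p) i = 0 := by
  by_contra hne
  apply hi
  have h1 : addOrderOf i • ZMod.castHom hpm (ZMod p) i = 0 := by
    rw [← map_nsmul, addOrderOf_nsmul_eq_zero, map_zero]
  rw [nsmul_eq_mul, mul_eq_zero, or_iff_left hne, ZMod.natCast_eq_zero_iff] at h1
  exact h1

lemma psi_preg (hpm : p ∣ m) {i : ZMod m} (hi : Preg p i) : psi hpm i = 1 := by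
  rw [psi_apply, castHom_of_preg hpm hi, AddChar.map_zero_eq_one]

lemma psi_eq_one_iff (hpm : p ∣ m) (i : ZMod m) :
    psi hpm i = 1 ↔ ZMod.castHom hpm (ZMod p) i = 0 := by
  rw [psi_apply, ← AddChar.map_zero_eq_one (ZMod.stdAddChar (N := p)),
    ZMod.injective_stdAddChar.eq_iff]

lemma sum_psi (hpm : p ∣ m) : ∑ i, psi hpm i = 0 := by
  rw [AddChar.sum_eq_zero_iff_ne_zero]
  intro h
  have : psi hpm 1 = 1 := by rw [h]; rfl
  rw [psi_eq_one_iff, map_one] at this
  exact one_ne_zero this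

/-- Evaluation at the character. -/
noncomputable def Psi (hpm : p ∣ m) : AR ℤ m →+* ℂ where
  toFun X := ∑ i, (X.coeff i : ℂ) * psi hpm i
  map_one' := by
    simp [AddMonoidAlgebra.one_def, AddMonoidAlgebra.coeff_single, Finsupp.single_apply]
  map_mul' X Y := by
    simp only [coeffA_mul, Int.cast_sum, Finset.sum_mul]
    rw [Finset.sum_comm]
    refine Finset.sum_congr rfl fun i _ => ?_
    rw [← Equiv.sum_comp (Equiv.addRight i), Finset.mul_sum]
    refine Finset.sum_congr rfl fun j _ => ?_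
    simp only [Equiv.coe_addRight, add_sub_cancel_right, Int.cast_mul, AddChar.map_add_eq_mul]
    ring
  map_zero' := by simp
  map_add' X Y := by simp [Finset.sum_add_distrib, add_mul]

lemma Psi_apply (hpm : p ∣ m) (X : AR ℤ m) : Psi hpm X = ∑ i, (X.coeff i : ℂ) * psi hpm i := rfl

lemma Psi_st (hpm : p ∣ m) (X : AR ℤ m) : Psi hpm (st X) = conj (Psi hpm X) := by
  rw [Psi_apply, Psi_apply, map_sum, ← Equiv.sum_comp (Equiv.neg (ZMod m))]
  refine Finset.sum_congr rfl fun i _ => ?_
  simp only [Equiv.neg_apply, coeff_st, neg_neg, map_mul, map_intCast]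
  rw [AddChar.map_neg_eq_conj]

/-- Integral value of the character on rotation parts. -/
noncomputable def uHom (m p : ℕ) [NeZero m] : DR ℤ m →+ ℤ where
  toFun F := ∑ i : ZMod m, if Preg p i then F.coeff (r i) - F.coeff (r (zp m p)) else 0
  map_zero' := by simp
  map_add' F G := by
    rw [← Finset.sum_add_distrib]
    refine Finset.sum_congr rfl fun i _ => ?_
    simp only [MonoidAlgebra.coeff_add, Finsupp.add_apply]
    split_ifs <;> ring

lemma uHom_apply (F : DR ℤ m) :
    uHom m p F = ∑ i : ZMod m, if Preg p i then F.coeff (r i) - F.coeff (r (zp m p)) else 0 := rfl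

/-- Value on reflection parts. -/
noncomputable def yHom (hpm : p ∣ m) : DR ℤ m →+ ℂ := (Psi hpm).toAddMonoidHom.comp bP

lemma yHom_apply (hpm : p ∣ m) (F : DR ℤ m) : yHom hpm F = Psi hpm (bP F) := rfl

/-- All rotations of order divisible by `p` lie in one basic set. -/
def Big (S : SR m) (p : ℕ) : Prop := ∀ i : ZMod m, ¬ Preg p i → S.rel (r i) (r (zp m p))

lemma coeff_big (hbig : Big S p) {F : DR R m} (hF : S.Inv F) {i : ZMod m} (hi : ¬ Preg p i) :
    F.coeff (r i) = F.coeff (r (zp m p)) := hF _ _ (hbig i hi)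

lemma u_congr (hpm : p ∣ m) (hbig : Big S p) {F : DR ℤ m} (hF : S.Inv F) :
    augA (aP F) = uHom m p F + (m : ℤ) * F.coeff (r (zp m p)) := by
  rw [uHom_apply, augA_apply, show (m : ℤ) * F.coeff (r (zp m p)) = ∑ _i : ZMod m, F.coeff (r (zp m p)) by
    simp [ZMod.card], ← Finset.sum_add_distrib]
  refine Finset.sum_congr rfl fun i _ => ?_
  split_ifs with h
  · rw [coeff_aP]; ring
  · rw [coeff_aP, coeff_big hbig hF h]; ring

lemma Psi_aP (hpm : p ∣ m) (hbig : Big S p) {F : DR ℤ m} (hF : S.Inv F) :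
    Psi hpm (aP F) = (uHom m p F : ℂ) := by
  rw [uHom_apply, Psi_apply]
  push_cast
  have : ∀ i, ((F.coeff (r i) : ℤ) : ℂ) * psi hpm i = (F.coeff (r (zp m p)) : ℂ) * psi hpm i +
      (if Preg p i then (F.coeff (r i) : ℂ) - (F.coeff (r (zp m p)) : ℂ) else 0) := by
    intro i
    split_ifs with h
    · rw [psi_preg hpm h]; ring
    · rw [coeff_big hbig hF h, add_zero]
  simp only [coeff_aP, this, Finset.sum_add_distrib, ← Finset.mul_sum, sum_psi, mul_zero, zero_add]

lemma y_mul (hpm : p ∣ m) (hbig : Big S p) {F G : DR ℤ m} (hF : S.Inv F) (hG : S.Inv G) :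
    yHom hpm (F * G) = (uHom m p F : ℂ) * yHom hpm G + (uHom m p G : ℂ) * yHom hpm F := by
  simp only [yHom_apply, bP_mul, S.st_aP hF, map_add, map_mul, Psi_aP hpm hbig hF, Psi_aP hpm hbig hG]
  ring

/-- The product pairing of reflection parts. -/
noncomputable def alpha (m p : ℕ) [NeZero m] (F G : DR ℤ m) : ℤ :=
  uHom m p (F * G) - uHom m p F * uHom m p G

lemma alpha_eq (hpm : p ∣ m) (hbig : Big S p) {F G : DR ℤ m} (hF : S.Inv F) (hG : S.Inv G) :
    (alpha m p F G : ℂ) = conj (yHom hpm F) * yHom hpm G := by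
  have h := Psi_aP hpm hbig (S.inv_mul hF hG)
  rw [aP_mul, map_add, map_mul, map_mul, Psi_aP hpm hbig hF, Psi_aP hpm hbig hG, Psi_st,
    ← yHom_apply, ← yHom_apply] at h
  rw [alpha]
  push_cast
  linear_combination -h

lemma alpha_comm {F G : DR ℤ m} (hF : S.Inv F) (hG : S.Inv G) :
    alpha m p F G = alpha m p G F := by
  rw [alpha, alpha, S.comm hF hG, mul_comm (uHom m p F)]

lemma alpha_mul (hpm : p ∣ m) (hbig : Big S p) {F G K : DR ℤ m} (hF : S.Inv F) (hG : S.Inv G)
    (hK : S.Inv K) :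
    alpha m p (F * G) K = uHom m p F * alpha m p G K + uHom m p G * alpha m p F K := by
  apply Int.cast_injective (α := ℂ)
  push_cast
  rw [alpha_eq hpm hbig (S.inv_mul hF hG) hK, y_mul hpm hbig hF hG, alpha_eq hpm hbig hG hK,
    alpha_eq hpm hbig hF hK]
  simp only [map_add, map_mul, map_intCast]
  ring

lemma alpha_cross (hpm : p ∣ m) (hbig : Big S p) {F G K : DR ℤ m} (hF : S.Inv F) (hG : S.Inv G)
    (hK : S.Inv K) :
    alpha m p F K * alpha m p G K = alpha m p F G * alpha m p K K := by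
  rw [alpha_comm hG hK]
  apply Int.cast_injective (α := ℂ)
  push_cast
  rw [alpha_eq hpm hbig hF hK, alpha_eq hpm hbig hK hG, alpha_eq hpm hbig hF hG, alpha_eq hpm hbig hK hK]
  ring

lemma alpha_congr (hpm : p ∣ m) (hbig : Big S p) {F G : DR ℤ m} (hF : S.Inv F) (hG : S.Inv G) :
    (p : ℤ) ∣ alpha m p F G - augA (bP F) * augA (bP G) := by
  have h := congrArg augA (aP_mul F G)
  rw [map_add, map_mul (augA (R := ℤ)) (aP F), map_mul (augA (R := ℤ)) (st (bP F)), augA_st,
    u_congr hpm hbig (S.inv_mul hF hG), u_congr hpm hbig hF,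
    u_congr hpm hbig hG] at h
  obtain ⟨q, hq⟩ := Int.natCast_dvd_natCast.2 hpm
  exact ⟨q * (uHom m p F * G.coeff (r (zp m p)) + uHom m p G * F.coeff (r (zp m p))
    + (m : ℤ) * F.coeff (r (zp m p)) * G.coeff (r (zp m p)) - (F * G).coeff (r (zp m p))), by
    rw [alpha]
    linear_combination h + (uHom m p F * G.coeff (r (zp m p)) + uHom m p G * F.coeff (r (zp m p))
      + (m : ℤ) * F.coeff (r (zp m p)) * G.coeff (r (zp m p)) - (F * G).coeff (r (zp m p))) * hq⟩

/-- The sign representation. -/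
noncomputable def sgn : DR R m →+* R where
  toFun F := augA (aP F) - augA (bP F)
  map_one' := by simp [aP_one, bP_one]
  map_mul' F G := by simp [aP_mul, bP_mul]; ring
  map_zero' := by simp
  map_add' F G := by simp; ring

lemma sgn_apply (F : DR R m) : sgn F = augA (aP F) - augA (bP F) := rfl

/-- Change of coefficients. -/
noncomputable def castD (R : Type) [CommRing R] : DR ℤ m →+* DR R m where
  toFun F := ofD fun x => (F.coeff x : R)
  map_one' := extD fun x => by
    simp [MonoidAlgebra.one_def, MonoidAlgebra.coeff_single, Finsupp.single_apply]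
  map_mul' F G := extD fun x => by
    simp [coeffD_mul]
  map_zero' := extD fun x => by simp
  map_add' F G := extD fun x => by simp

@[simp] lemma coeff_castD (F : DR ℤ m) (x : DihedralGroup m) : (castD R F).coeff x = (F.coeff x : R) :=
  rfl

lemma coeff_one_r (i : ZMod m) : (1 : DR R m).coeff (r i) = if i = 0 then 1 else 0 := by
  rw [MonoidAlgebra.one_def, MonoidAlgebra.coeff_single, Finsupp.single_apply]
  exact if_congr ⟨fun h => r_eq_one_iff.1 h.symm, fun h => (r_eq_one_iff.2 h).symm⟩ rfl rfl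

lemma uHom_one (hpm : p ∣ m) : uHom m p (1 : DR ℤ m) = 1 := by
  rw [uHom_apply, Finset.sum_eq_single 0]
  · rw [if_pos preg_zero, coeff_one_r, coeff_one_r, if_pos rfl, if_neg (zp_ne_zero hpm), sub_zero]
  · intro i _ hi
    rw [coeff_one_r, coeff_one_r, if_neg hi, if_neg (zp_ne_zero hpm), sub_zero, ite_self]
  · simp

lemma uHom_allD : uHom m p (allD ℤ m) = 0 := by
  simp [uHom_apply, allD]

lemma yHom_allD (hpm : p ∣ m) : yHom hpm (allD ℤ m) = 0 := by
  rw [yHom_apply, Psi_apply]
  simp [allD, sum_psi hpm]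

lemma yHom_one (hpm : p ∣ m) : yHom hpm (1 : DR ℤ m) = 0 := by
  rw [yHom_apply, bP_one, map_zero]

end Cfsg.Agent.P3572
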