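import Cfsg.Agent.P3572.Blocks

/-! Dihedral groups of two-power order. -/

set_option autoImplicit false

namespace Cfsg.Agent.P3572

open DihedralGroup
open scoped Classical

variable {m : ℕ} [NeZero m]

local instance factPrimeTwo : Fact (Nat.Prime 2) := ⟨Nat.prime_two⟩

/-- A two-power cyclic group algebra in characteristic two: self-paired zero divisors are periodic. -/
lemma periodic_of_mul_st_eq_zero {e : ℕ} (he : m = 2 ^ (e + 1)) {Y : AR (ZMod 2) m}
    (h : Y * st Y = 0) : Per 2 Y := by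
  haveI : CharP (AR (ZMod 2) m) 2 := charP_of_injective_algebraMap' (R := ZMod 2) (A := AR (ZMod 2) m) 2
  have h2 : (2 : AR (ZMod 2) m) = 0 := CharTwo.two_eq_zero
  set s : AR (ZMod 2) m := AddMonoidAlgebra.single (1 : ZMod m) 1 with hs
  set w : AR (ZMod 2) m := s + 1
  have hspow : ∀ k : ℕ, s ^ k = AddMonoidAlgebra.single ((k : ℕ) : ZMod m) 1 := fun k => by
    rw [hs, AddMonoidAlgebra.single_pow, one_pow, nsmul_eq_mul, mul_one]
  have hexp : ∀ f : AR (ZMod 2) m, f = ∑ i, AddMonoidAlgebra.single i (f.coeff i) := fun f =>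
    extA fun j => by
      rw [AddMonoidAlgebra.coeff_sum, Finsupp.finsetSum_apply, Finset.sum_eq_single j]
      · simp [AddMonoidAlgebra.coeff_single]
      · intro b _ hb
        simp [AddMonoidAlgebra.coeff_single, Finsupp.single_apply, hb]
      · simp
  have hsingle : ∀ g : ZMod m → ZMod 2, ∑ i, AddMonoidAlgebra.single (0 : ZMod m) (g i) =
      AddMonoidAlgebra.single (0 : ZMod m) (∑ i, g i) := fun g => extA fun j => by
    rw [AddMonoidAlgebra.coeff_sum, Finsupp.finsetSum_apply]
    simp only [AddMonoidAlgebra.coeff_single, Finsupp.single_apply]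
    split_ifs <;> simp
  have hfrob : ∀ f : AR (ZMod 2) m, f ^ (2 ^ (e + 1)) = AddMonoidAlgebra.single 0 (augA f) := by
    intro f
    conv_lhs => rw [hexp f, sum_pow_char_pow 2 (e + 1)]
    rw [augA_apply]
    refine (Finset.sum_congr rfl fun i _ => ?_).trans (hsingle _)
    rw [AddMonoidAlgebra.single_pow, ZMod.pow_card_pow, nsmul_eq_mul, ← he, ZMod.natCast_self, zero_mul]
  have hdiv : ∀ f : AR (ZMod 2) m, augA f = 0 → w ∣ f := by
    intro f hf
    have hw : w = s - 1 := (CharTwo.sub_eq_add s 1).symm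
    rw [hw]
    have h1 : f = ∑ i, AddMonoidAlgebra.single (0 : ZMod m) (f.coeff i) *
        (s ^ i.val - 1) := by
      simp only [mul_sub, mul_one, Finset.sum_sub_distrib, hspow, ZMod.natCast_zmod_val,
        AddMonoidAlgebra.single_mul_single, zero_add]
      rw [← hexp f, hsingle, ← augA_apply, hf, AddMonoidAlgebra.single_zero,
        sub_zero]
    rw [h1]
    exact Finset.dvd_sum fun i _ => dvd_mul_of_dvd_right (sub_one_dvd_pow_sub_one s _) _
  have hunit : ∀ f : AR (ZMod 2) m, augA f ≠ 0 → IsUnit f := by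
    intro f hf
    have h01 : ∀ x : ZMod 2, x = 0 ∨ x = 1 := by decide
    have h1 : augA f = 1 := (h01 _).resolve_left hf
    refine IsUnit.of_pow_eq_one (n := 2 ^ (e + 1)) ?_ (by positivity)
    rw [hfrob, h1]
    rfl
  have hw2 : ∀ a, 2 * a < m → w ^ (2 * a) ≠ 0 := by
    intro a ha e0
    rw [pow_mul, show w ^ 2 = s ^ 2 + 1 by simp only [w]; rw [CharTwo.add_sq, one_pow],
      add_pow] at e0
    have e1 := congrArg (fun f : AR (ZMod 2) m => f.coeff 0) e0
    simp only [one_pow, mul_one, AddMonoidAlgebra.coeff_sum, Finsupp.finsetSum_apply,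
      AddMonoidAlgebra.coeff_zero, Finsupp.zero_apply] at e1
    rw [Finset.sum_eq_single_of_mem 0 (by simp) fun j hj hj0 => ?_] at e1
    · simp at e1
    · rw [← pow_mul, hspow, ← Nat.cast_comm, ← nsmul_eq_mul, AddMonoidAlgebra.coeff_smul_apply,
        AddMonoidAlgebra.coeff_single, Finsupp.single_apply, if_neg, smul_zero]
      intro e2
      rw [ZMod.natCast_eq_zero_iff] at e2
      rw [Finset.mem_range] at hj
      have := Nat.le_of_dvd (by omega) e2
      omega
  have hstw : st w = AddMonoidAlgebra.single (-1 : ZMod m) 1 * w := by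
    have h1 : st s = AddMonoidAlgebra.single (-1 : ZMod m) 1 := extA fun i => by
      simp [hs, AddMonoidAlgebra.coeff_single, Finsupp.single_apply, neg_eq_iff_eq_neg, eq_neg_iff_add_eq_zero,
        add_comm]
    simp only [w, map_add, map_one, h1]
    rw [mul_add, mul_one, hs, AddMonoidAlgebra.single_mul_single, neg_add_cancel, one_mul]
    rw [add_comm (AddMonoidAlgebra.single (0 : ZMod m) (1 : ZMod 2)),
      show AddMonoidAlgebra.single (0 : ZMod m) (1 : ZMod 2) = 1 from rfl]
  have key : ∀ a, a ≤ 2 ^ e → w ^ a ∣ Y := by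
    intro a
    induction a with
    | zero => intro _; rw [pow_zero]; exact one_dvd _
    | succ a ih =>
      intro ha
      obtain ⟨v, hv⟩ := ih (by omega)
      by_cases h0 : augA v = 0
      · rw [hv, pow_succ]
        exact mul_dvd_mul_left _ (hdiv v h0)
      exfalso
      rw [hv, map_mul, map_pow, hstw, mul_pow] at h
      have hst : augA (st v) ≠ 0 := by rwa [augA_st]
      have hu : IsUnit (v * AddMonoidAlgebra.single (-1 : ZMod m) (1 : ZMod 2) ^ a * st v) := by
        refine ((hunit v h0).mul (IsUnit.pow _ ?_)).mul (hunit _ hst)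
        refine IsUnit.of_mul_eq_one s ?_
        rw [hs, AddMonoidAlgebra.single_mul_single, neg_add_cancel, one_mul]
        rfl
      refine hw2 a (by rw [he, pow_succ]; omega) (hu.mul_left_eq_zero.1 ?_)
      rw [← h]; ring
  obtain ⟨v, hv⟩ := key _ le_rfl
  have hwN : w ^ 2 ^ e = AddMonoidAlgebra.single (zp m 2) 1 + 1 := by
    simp only [w]
    rw [add_pow_char_pow _ _ 2 e, one_pow, hspow]
    congr 3
    rw [he, pow_succ, Nat.mul_div_cancel _ (by norm_num)]
  have hz : AddMonoidAlgebra.single (zp m 2) (1 : ZMod 2) * Y = Y := by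
    rw [hv, hwN, ← mul_assoc, mul_add, mul_one, AddMonoidAlgebra.single_mul_single, one_mul,
      ← two_nsmul, p_smul_zp (by rw [he, pow_succ]; exact dvd_mul_left _ _),
      show AddMonoidAlgebra.single (0 : ZMod m) (1 : ZMod 2) = 1 from rfl, add_comm]
  intro i
  have := congrArg (fun f : AR (ZMod 2) m => f.coeff (i + zp m 2)) hz
  simp only [coeffA_mul, AddMonoidAlgebra.coeff_single] at this
  rw [Finset.sum_eq_single (zp m 2) (fun b _ hb => by simp [Ne.symm hb]) (by simp)] at this
  simpa using this.symm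

lemma preg_two {e : ℕ} (he : m = 2 ^ (e + 1)) {i : ZMod m} (hi : Preg 2 i) : i = 0 := by
  have h : addOrderOf i ∣ m := addOrderOf_dvd_of_nsmul_eq_zero (by simp)
  obtain ⟨k, -, hk⟩ := (Nat.dvd_prime_pow Nat.prime_two).1
    (show addOrderOf i ∣ 2 ^ (e + 1) from h.trans (dvd_of_eq he))
  rcases k with _ | k
  · exact AddMonoid.addOrderOf_eq_one_iff.1 (by rw [hk, pow_zero])
  · exact absurd ⟨2 ^ k, by rw [hk, pow_succ']⟩ hi

/-- Two-power case: one basic set apart from the identity. -/
theorem rel_zp_two {S : SR m} (hS : S.Rational) {e : ℕ} (he : m = 2 ^ (e + 1)) {i0 : ZMod m}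
    (hi0 : i0 ≠ 0) : S.rel (r i0) (r (zp m 2)) := by
  have hm : 2 ≤ m := by rw [he, pow_succ]; have := Nat.one_le_two_pow (n := e); omega
  have hpm : 2 ∣ m := by rw [he, pow_succ]; exact dvd_mul_left _ _
  by_contra hcon
  set V : DihedralGroup m → Prop := fun g => S.rel (r i0) g
  have hV : S.Union V := S.union_class _
  have hV1 : ¬ V 1 := fun h => hi0 (r_eq_one_iff.1 (S.one _ (S.equiv.symm h)))
  have hV0 : ¬ V (r (0 : ZMod m)) := by rw [← DihedralGroup.one_def]; exact hV1
  have hVz : ¬ V (r (zp m 2)) := hcon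
  have hzz : zp m 2 + zp m 2 = 0 := by rw [← two_nsmul, p_smul_zp hpm]
  have hX : ∀ i, V (r (i + zp m 2)) ↔ V (r i) := by
    intro i
    by_cases h1 : i = 0
    · rw [h1, zero_add]; exact iff_of_false hVz hV0
    by_cases h2 : i + zp m 2 = 0
    · have : i = zp m 2 := by
        rw [← add_left_inj (zp m 2), h2, hzz]
      rw [h2, this]
      exact iff_of_false hV0 hVz
    exact (hV _ _ (rel_of_smul_eq hS hpm (by rw [nsmul_add, p_smul_zp hpm, add_zero])
      (fun h => h1 (preg_two he h)) (fun h => h2 (preg_two he h)))).symm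
  set F := ind (ZMod 2) V
  have hF : S.Inv F := S.inv_ind hV
  have hFX : Per 2 (aP F) := fun i => by simp [F, coeff_ind, hX i]
  have h2F : (2 : AR (ZMod 2) m) = 0 := by
    rw [show (2 : AR (ZMod 2) m) = algebraMap (ZMod 2) (AR (ZMod 2) m) 2 from (map_ofNat _ 2).symm,
      show (2 : ZMod 2) = 0 from rfl, map_zero]
  have hFF : aP (F * F) = st (bP F) * bP F := by
    rw [aP_mul, per_mul_eq_zero hpm hFX hFX, zero_add]
  have hFFb : bP (F * F) = 0 := by
    rw [bP_mul, S.st_aP hF, mul_comm (bP F), ← two_mul, h2F, zero_mul]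
  have hzero : ∀ g, g ≠ 1 → (F * F).coeff g = 0 := fun g hg => by
    obtain ⟨i, hi⟩ := S.meets_sr hg
    rw [S.inv_mul hF hF _ _ hi, ← coeff_bP, hFFb]
    rfl
  set y := augA (bP (ind ℤ V))
  have hy2 : augA (bP F) = (y : ZMod 2) := by
    simp [y, augA_apply, F, coeff_ind]
  have h01 : ∀ x : ZMod 2, x * x = x := by decide
  by_cases hy : (y : ZMod 2) = 0
  · have hYY : bP F * st (bP F) = 0 := by
      have hd : ∀ i : ZMod m, i ≠ 0 → (st (bP F) * bP F).coeff i = 0 := fun i hi => by
        rw [← hFF, coeff_aP]; exact hzero _ (fun e => hi (r_eq_one_iff.1 e))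
      refine extA fun i => ?_
      rw [mul_comm, AddMonoidAlgebra.coeff_zero, Finsupp.zero_apply]
      by_cases hi : i = 0
      · have := congrArg (fun v => v) (map_mul (augA (R := ZMod 2)) (st (bP F)) (bP F))
        rw [augA_st, hy2, hy, zero_mul, augA_apply,
          Finset.sum_eq_single (0 : ZMod m) (fun b _ hb => hd b hb) (by simp)] at this
        rw [hi, this]
      · exact hd i hi
    have hper := periodic_of_mul_st_eq_zero he hYY
    refine hS.periodic_empty hm hpm hV hV1 hVz (fun i => ?_) (r i0) (S.equiv.refl _)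
    have h := hper i
    simp only [coeff_bP, F, coeff_ind] at h
    by_cases a : V (sr (i + zp m 2)) <;> by_cases b : V (sr i) <;> simp [a, b] at h ⊢
  · -- odd reflection part
    let D := sqData (p := 2) hS hm hpm hV hX
    obtain ⟨-, hd, -, hK⟩ := D.equations hS hV _ _ rfl rfl
    set X := aP (ind ℤ V)
    set x := augA X with hx
    have hXper : Per 2 X := fun i => by simp [X, coeff_ind, hX i]
    have hxdvd : (2 : ℤ) ∣ x := by
      rw [hx, augA_apply]
      simpa using sum_periodic_dvd (p := 2) hpm hXper (d := 1) (fun i => one_dvd _)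
    have ha : ¬ (2 : ℤ) ∣ D.a := by
      intro h
      rw [← hd] at h
      have h' : (2 : ℤ) ∣ x - y := Int.prime_two.dvd_of_dvd_pow h
      apply hy
      rw [ZMod.intCast_zmod_eq_zero_iff_dvd]
      simpa using dvd_sub hxdvd h'
    have hXn : ∀ k : ℕ, Per 2 (X ^ (k + 1)) ∧ ∀ i, (2 : ℤ) ^ k ∣ (X ^ (k + 1)).coeff i := by
      intro k
      induction k with
      | zero => exact ⟨by rw [zero_add, pow_one]; exact hXper, fun i => by simp⟩
      | succ k ih =>
        rw [pow_succ X (k + 1)]
        refine ⟨per_mul ih.1 X, fun i => ?_⟩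
        rw [coeffA_mul, pow_succ']
        exact_mod_cast sum_periodic_dvd (p := 2) hpm (g := fun b => (X ^ (k + 1)).coeff b * X.coeff (i - b))
          (fun b => by
            rw [ih.1 b, show i - (b + zp m 2) = (i - b - zp m 2) by abel, ← hXper (i - b - zp m 2),
              sub_add_cancel])
          (fun b => dvd_mul_of_dvd_left (ih.2 b) _)
    set A := allA ℤ m
    set K := (m : AR ℤ m) * X - (x : AR ℤ m) * A
    have hXA : X * A = (x : AR ℤ m) * A := by rw [hx]; exact mul_allA X
    have hAA : A * A = (m : AR ℤ m) * A := by rw [mul_allA, augA_allA]; push_cast; rfl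
    have hXkA : ∀ k : ℕ, X ^ k * A = (x : AR ℤ m) ^ k * A := by
      intro k
      induction k with
      | zero => simp
      | succ k ih => rw [pow_succ, mul_assoc, hXA, mul_left_comm, ih, pow_succ]; ring
    have hKn : ∀ k : ℕ, K ^ (k + 1) =
        (m : AR ℤ m) ^ k * ((m : AR ℤ m) * X ^ (k + 1) - (x : AR ℤ m) ^ (k + 1) * A) := by
      intro k
      induction k with
      | zero => simp [K]
      | succ k ih =>
        rw [pow_succ K (k + 1), ih]
        simp only [K]
        linear_combination (-(m : AR ℤ m) ^ (k + 1) * (x : AR ℤ m) ^ (k + 1)) * hXA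
          + ((m : AR ℤ m) ^ k * (x : AR ℤ m) ^ (k + 2)) * hAA
          - ((m : AR ℤ m) ^ (k + 1) * (x : AR ℤ m)) * hXkA (k + 1)
    have hKodd : ∀ i : ℕ, K ^ (2 * i + 1) = ((D.a * (m : ℤ) ^ 2 : ℤ) : AR ℤ m) ^ i * K := by
      intro i
      induction i with
      | zero => simp
      | succ i ih =>
        rw [show 2 * (i + 1) + 1 = (2 * i + 1) + 2 by omega, pow_add, ih, mul_assoc, ← pow_succ', hK]
        ring
    have hdvdK : ∀ i : ℕ, (2 : ℤ) ^ (2 * i) ∣ D.a ^ i * K.coeff 0 := by
      intro i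
      have e := hKodd i
      rw [hKn, ← Int.cast_pow] at e
      have e' := congrArg (fun W : AR ℤ m => W.coeff 0) e
      simp only [show (m : AR ℤ m) = (((m : ℕ) : ℤ) : AR ℤ m) from (Int.cast_natCast m).symm,
        ← Int.cast_pow, AddMonoidAlgebra.coeff_sub, Finsupp.sub_apply, coeff_intCast_mul, A, allA,
        coeff_ofA, mul_one, mul_pow, ← pow_mul] at e'
      have hm0 : ((m : ℕ) : ℤ) ^ (2 * i) ≠ 0 := pow_ne_zero _ (by exact_mod_cast NeZero.ne m)
      have e'' : ((m : ℕ) : ℤ) * (X ^ (2 * i + 1)).coeff 0 - x ^ (2 * i + 1) = D.a ^ i * K.coeff 0 :=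
        mul_left_cancel₀ hm0 (by rw [e']; ring)
      rw [← e'']
      refine dvd_sub (dvd_mul_of_dvd_right ((hXn (2 * i)).2 0) _) ?_
      exact dvd_trans (pow_dvd_pow _ (by omega)) (pow_dvd_pow_of_dvd hxdvd _)
    have hK0 : K.coeff 0 = 0 := by
      by_contra hne
      have hcop : ∀ i : ℕ, IsCoprime ((2 : ℤ) ^ (2 * i)) (D.a ^ i) := fun i =>
        ((Prime.coprime_iff_not_dvd Int.prime_two).2 ha).pow
      have h1 := (hcop ((K.coeff 0).natAbs + 1)).dvd_of_dvd_mul_left (hdvdK _)
      have h2 := Nat.le_of_dvd (Int.natAbs_pos.2 hne) (Int.natAbs_dvd_natAbs.2 h1)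
      rw [Int.natAbs_pow] at h2
      have h3 : 2 * ((K.coeff 0).natAbs + 1) < 2 ^ (2 * ((K.coeff 0).natAbs + 1)) :=
        Nat.lt_pow_self (by norm_num)
      norm_num at h2
      omega
    simp only [K, show (m : AR ℤ m) = (((m : ℕ) : ℤ) : AR ℤ m) from (Int.cast_natCast m).symm,
      AddMonoidAlgebra.coeff_sub, Finsupp.sub_apply, coeff_intCast_mul, A, allA, coeff_ofA, mul_one,
      X, coeff_aP, coeff_ind, if_neg hV0, mul_zero, zero_sub, neg_eq_zero] at hK0
    have hpos : 0 < x := by
      rw [hx, augA_apply]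
      obtain ⟨i, hi⟩ := S.meets_r hm (r i0)
      refine Finset.sum_pos' (fun j _ => ?_) ⟨i, Finset.mem_univ i, ?_⟩
      · simp only [X, coeff_aP, coeff_ind]; split_ifs <;> norm_num
      · simp only [X, coeff_aP, coeff_ind]
        rw [if_pos (show V (r i) from hi)]
        norm_num
    omega

end Cfsg.Agent.P3572
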