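import Cfsg.Agent.P3572.Chars

/-! No small basic sets: lifting congruences. -/

set_option autoImplicit false

namespace Cfsg.Agent.P3572

open DihedralGroup
open scoped Classical ComplexConjugate

variable {m : ℕ} [NeZero m] {p : ℕ} [hp : Fact p.Prime] {S : SR m}

/-- Small rotations: order prime to `p`, outside the big basic set. -/
def Small (S : SR m) (p : ℕ) (h : ZMod m) : Prop :=
  Preg p h ∧ h ≠ 0 ∧ ¬ S.rel (r h) (r (zp m p))

/-- The indicator of a basic set. -/
noncomputable abbrev cls (R : Type) [CommRing R] (S : SR m) (h : ZMod m) : DR R m :=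
  ind R (fun g => S.rel (r h) g)

lemma inv_cls {R : Type} [CommRing R] (h : ZMod m) : S.Inv (cls R S h) := S.inv_ind (S.union_class _)

/-- Spanning by the identity, the total sum and small basic sets. -/
lemma span_small (hm : 2 ≤ m) (hpm : p ∣ m) (hbig : Big S p) {M : Type*} [AddCommGroup M]
    (f : DR ℤ m →+ M) (W : AddSubgroup M) (h1 : f 1 ∈ W) (hD : f (allD ℤ m) ∈ W)
    (hU : ∀ h, Small S p h → f (cls ℤ S h) ∈ W) {F : DR ℤ m} (hF : S.Inv F) : f F ∈ W := by
  set c := F.coeff (r (zp m p))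
  set F' := F - c • allD ℤ m - (F.coeff 1 - c) • (1 : DR ℤ m)
  have hF' : S.Inv F' := S.inv_sub (S.inv_sub hF (S.inv_smul c (S.inv_const 1))) (S.inv_smul _ S.inv_one)
  have hz1 : r (zp m p) ≠ (1 : DihedralGroup m) := fun e => zp_ne_zero hpm (r_eq_one_iff.1 e)
  have h0 : F'.coeff 1 = 0 := by
    simp only [F', c, MonoidAlgebra.coeff_sub, Finsupp.sub_apply, MonoidAlgebra.coeff_smul_apply, allD,
      coeff_ofD, smul_eq_mul, mul_one, MonoidAlgebra.coeff_one_one]
    ring
  have hz : F'.coeff (r (zp m p)) = 0 := by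
    simp only [F', c, MonoidAlgebra.coeff_sub, Finsupp.sub_apply, MonoidAlgebra.coeff_smul_apply, allD,
      coeff_ofD, smul_eq_mul, mul_one, coeff_one_r, if_neg (zp_ne_zero hpm)]
    ring
  suffices hmem : f F' ∈ W by
    have : F = F' + (c • allD ℤ m + (F.coeff 1 - c) • (1 : DR ℤ m)) := by simp only [F']; abel
    rw [this, map_add, map_add, map_zsmul, map_zsmul]
    exact add_mem hmem (add_mem (zsmul_mem hD c) (zsmul_mem h1 _))
  let _ := S.setoid
  have hexp : F' = ∑ q : Quotient S.setoid,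
      F'.coeff q.out • ind ℤ (fun y => Quotient.mk S.setoid y = q) := by
    refine extD fun y => ?_
    rw [MonoidAlgebra.coeff_sum, Finsupp.finsetSum_apply,
      Finset.sum_eq_single (Quotient.mk S.setoid y)]
    · rw [MonoidAlgebra.coeff_smul_apply, coeff_ind, if_pos rfl, smul_eq_mul, mul_one]
      exact (hF' _ _ (Quotient.exact (Quotient.out_eq (Quotient.mk S.setoid y)))).symm
    · intro c _ hc
      rw [MonoidAlgebra.coeff_smul_apply, coeff_ind, if_neg (Ne.symm hc), smul_zero]
    · simp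
  rw [hexp, map_sum]
  refine sum_mem fun q _ => ?_
  rw [map_zsmul]
  by_cases h : F'.coeff q.out = 0
  · simp [h]
  refine zsmul_mem ?_ _
  obtain ⟨i, hi⟩ := S.meets_r hm q.out
  have hi' : F'.coeff (r i) ≠ 0 := by rwa [← hF' _ _ hi]
  have hsm : Small S p i := by
    have hrel : ¬ S.rel (r i) (r (zp m p)) := fun e => hi' ((hF' _ _ e).trans hz)
    refine ⟨by_contra fun e => hrel (hbig i e), fun e => hi' ?_, hrel⟩
    rw [r_eq_one_iff.2 e, h0]
  rw [show (fun y => Quotient.mk S.setoid y = q) = (fun g => S.rel (r i) g) from ?_]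
  · exact hU i hsm
  funext y
  refine propext ⟨fun e => ?_, fun e => ?_⟩
  · refine S.equiv.trans (S.equiv.symm hi) (Quotient.exact (s := S.setoid) ?_)
    rw [Quotient.out_eq, e]
  · rw [← Quotient.out_eq q]
    exact Quotient.sound (show S.rel y q.out from S.equiv.symm (S.equiv.trans hi e))

/-- Small basic sets are fixed by Frobenius. -/
lemma exists_pow_eq (hS : S.Rational) (hm : 2 ≤ m) (hpm : p ∣ m) {n : ℕ} (hn : p = 2 * n + 1)
    (hbig : Big S p) {h : ZMod m} (hh : Small S p h) :
    ∃ G : DR ℤ m, S.Inv G ∧ cls ℤ S h ^ p = cls ℤ S h + (p : ℤ) • G := by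
  set U := cls ℤ S h
  have hUinv : S.Inv U := inv_cls h
  have hcast : castD (ZMod p) U = cls (ZMod p) S h := extD fun x => by
    simp [U, cls, coeff_ind]
  have hUp : S.Inv (cls (ZMod p) S h) := inv_cls h
  have hzero : ∀ x : ZMod m, ¬ Preg p x → (cls (ZMod p) S h).coeff (r x) = 0 := fun x hx => by
    rw [coeff_ind, if_neg fun e => hh.2.2 (S.equiv.trans e (hbig x hx))]
  have hpow : cls (ZMod p) S h ^ p = cls (ZMod p) S h := by
    refine S.eq_of_aP hm (S.inv_pow hUp p) hUp (extA fun k => ?_)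
    rw [(pow_odd_prime hn _ (S.st_aP hUp)).1, coeff_pow_prime, coeff_aP]
    simp only [coeff_aP]
    by_cases hk : Preg p k
    · obtain ⟨x, hxr, hxk⟩ : ∃ x, Preg p x ∧ p • x = k := by
        set o := addOrderOf k with ho
        have hcop : Nat.Coprime p o := (Nat.Prime.coprime_iff_not_dvd hp.out).2 hk
        have htot : 0 < o.totient := Nat.totient_pos.2 (addOrderOf_pos k)
        refine ⟨p ^ (o.totient - 1) • k, ?_, ?_⟩
        · intro e
          exact hk (e.trans (addOrderOf_smul_dvd _))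
        · rw [← mul_nsmul', ← pow_succ', Nat.sub_add_cancel htot]
          conv_rhs => rw [← one_nsmul k]
          rw [nsmul_eq_nsmul_iff_modEq]
          exact Nat.ModEq.pow_totient hcop
      subst hxk
      have hmem : x ∈ fib p x := by simp [fib]
      show ∑ y ∈ fib p x, (cls (ZMod p) S h).coeff (r y) = _
      rw [Finset.sum_eq_single_of_mem x hmem fun y hy hyx => hzero y ?_]
      · exact hUp _ _ (hS.rel_of_order (hxr.order_smul).symm)
      · rw [show y = x + (y - x) by abel]
        exact not_preg_add hpm hxr (by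
          rw [nsmul_sub, (Finset.mem_filter.1 hy).2, sub_self]) (sub_ne_zero.2 hyx)
    · rw [hzero k hk]
      refine Finset.sum_eq_zero fun x hx => hzero x fun hxr => hk ?_
      rw [← (Finset.mem_filter.1 hx).2]
      exact hxr.smul
  have hdvd : ∀ x, (p : ℤ) ∣ (U ^ p - U).coeff x := fun x => by
    have e : castD (ZMod p) (U ^ p - U) = 0 := by rw [map_sub, map_pow, hcast, hpow, sub_self]
    have e' := congrArg (fun G => G.coeff x) e
    simp only [coeff_castD, MonoidAlgebra.coeff_zero, Finsupp.zero_apply] at e'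
    rwa [ZMod.intCast_zmod_eq_zero_iff_dvd] at e'
  have hinv : S.Inv (U ^ p - U) := S.inv_sub (S.inv_pow hUinv p) hUinv
  refine ⟨ofD fun x => (U ^ p - U).coeff x / (p : ℤ),
    S.inv_ofD (fun x y e => by rw [hinv x y e]), extD fun x => ?_⟩
  rw [MonoidAlgebra.coeff_add, Finsupp.add_apply, MonoidAlgebra.coeff_smul_apply, coeff_ofD, smul_eq_mul,
    Int.mul_ediv_cancel' (hdvd x)]
  simp

lemma pow_sub_pow_dvd {R : Type*} [CommRing R] {a b : R} {j : ℕ} (hj : 1 ≤ j)
    (h : (p : R) ^ j ∣ a - b) : (p : R) ^ (j + 1) ∣ a ^ p - b ^ p := by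
  obtain ⟨t, ht⟩ := h
  obtain ⟨w, hw⟩ := exists_add_pow_prime_eq hp.out b ((p : R) ^ j * t)
  rw [show a = b + (p : R) ^ j * t by linear_combination ht, hw]
  rw [show b ^ p + ((p : R) ^ j * t) ^ p + (p : R) * b * ((p : R) ^ j * t) * w - b ^ p
    = ((p : R) ^ j * t) ^ p + (p : R) ^ (j + 1) * (b * t * w) by ring, mul_pow, ← pow_mul]
  refine dvd_add (dvd_mul_of_dvd_left (pow_dvd_pow _ ?_) _) (dvd_mul_right _ _)
  have := hp.out.two_le
  nlinarith

/-- Multiples of a given element. -/
def multiples (R : Type*) [CommRing R] (d : R) : AddSubgroup R :=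
  (AddMonoidHom.mulLeft d).range

lemma mem_multiples {R : Type*} [CommRing R] {d x : R} : x ∈ multiples R d ↔ d ∣ x :=
  ⟨fun ⟨y, hy⟩ => ⟨y, hy.symm⟩, fun ⟨y, hy⟩ => ⟨y, hy.symm⟩⟩

/-- Lifting a congruence between two multiplicative evaluations. -/
lemma lift_congr (hS : S.Rational) (hm : 2 ≤ m) (hpm : p ∣ m) {n : ℕ} (hn : p = 2 * n + 1)
    (hbig : Big S p) {R : Type*} [CommRing R] (f g : DR ℤ m →+ R)
    (hfg1 : f 1 = g 1) (hfgD : f (allD ℤ m) = g (allD ℤ m))
    (hf : ∀ h, Small S p h → ∀ k, f (cls ℤ S h ^ k) = f (cls ℤ S h) ^ k)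
    (hg : ∀ h, Small S p h → ∀ k, g (cls ℤ S h ^ k) = g (cls ℤ S h) ^ k)
    (hbase : ∀ F, S.Inv F → (p : R) ∣ f F - g F) :
    ∀ j, 1 ≤ j → ∀ F, S.Inv F → (p : R) ^ j ∣ f F - g F := by
  intro j hj
  induction j, hj using Nat.le_induction with
  | base => simpa using hbase
  | succ j hj ih =>
    intro F hF
    refine mem_multiples.1 (span_small hm hpm hbig (f - g) (multiples R _) ?_ ?_ ?_ hF)
    · rw [mem_multiples, AddMonoidHom.sub_apply, hfg1, sub_self]; exact dvd_zero _
    · rw [mem_multiples, AddMonoidHom.sub_apply, hfgD, sub_self]; exact dvd_zero _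
    · intro h hh
      rw [mem_multiples, AddMonoidHom.sub_apply]
      obtain ⟨G, hG, hUG⟩ := exists_pow_eq hS hm hpm hn hbig hh
      have e1 : f (cls ℤ S h) = f (cls ℤ S h) ^ p - (p : R) * f G := by
        rw [← hf h hh p, hUG, map_add, map_zsmul, zsmul_eq_mul]; push_cast; ring
      have e2 : g (cls ℤ S h) = g (cls ℤ S h) ^ p - (p : R) * g G := by
        rw [← hg h hh p, hUG, map_add, map_zsmul, zsmul_eq_mul]; push_cast; ring
      rw [show f (cls ℤ S h) - g (cls ℤ S h) = (f (cls ℤ S h) ^ p - g (cls ℤ S h) ^ p)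
        - (p : R) * (f G - g G) by linear_combination e1 - e2]
      refine dvd_sub (pow_sub_pow_dvd hj (ih _ (inv_cls h))) ?_
      rw [pow_succ']
      exact mul_dvd_mul_left _ (ih G hG)

lemma uHom_small (hbig : Big S p) {h : ZMod m} (hh : Small S p h) :
    uHom m p (cls ℤ S h) = augA (aP (cls ℤ S h)) := by
  rw [uHom_apply, augA_apply]
  refine Finset.sum_congr rfl fun i _ => ?_
  have hz : (cls ℤ S h).coeff (r (zp m p)) = 0 := by rw [coeff_ind, if_neg hh.2.2]
  split_ifs with hi
  · rw [coeff_aP, hz, sub_zero]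
  · rw [coeff_aP, coeff_big hbig (inv_cls h) hi, hz]

lemma sgn_allD : sgn (allD ℤ m) = (0 : ℤ) := by
  have : aP (allD ℤ m) = bP (allD ℤ m) := extA fun i => rfl
  rw [sgn_apply, this, sub_self]

lemma augA_bP_pos (S : SR m) {h : ZMod m} (hh : h ≠ 0) : 0 < augA (bP (cls ℤ S h)) := by
  obtain ⟨i, hi⟩ := S.meets_sr (x := r h) fun e => hh (r_eq_one_iff.1 e)
  rw [augA_apply]
  refine Finset.sum_pos' (fun j _ => ?_) ⟨i, Finset.mem_univ i, ?_⟩
  · rw [coeff_bP, coeff_ind]; split_ifs <;> norm_num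
  · rw [coeff_bP, coeff_ind, if_pos hi]; norm_num

lemma int_eq_of_forall_pow_dvd {a b : ℤ} (h : ∀ j, 1 ≤ j → (p : ℤ) ^ j ∣ a - b) : a = b := by
  by_contra hne
  have h0 : 0 < (a - b).natAbs := Int.natAbs_pos.2 (sub_ne_zero.2 hne)
  have h1 := Int.natAbs_dvd_natAbs.2 (h ((a - b).natAbs + 1) (by omega))
  rw [Int.natAbs_pow, Int.natAbs_natCast] at h1
  have h2 := Nat.le_of_dvd h0 h1
  have h3 : (a - b).natAbs + 1 < p ^ ((a - b).natAbs + 1) := Nat.lt_pow_self hp.out.one_lt
  omega

/-- The reflection parts of small basic sets have augmentation prime to `p` for at least one set. -/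
lemma exists_not_dvd (hS : S.Rational) (hm : 2 ≤ m) (hpm : p ∣ m) {n : ℕ} (hn : p = 2 * n + 1)
    (hbig : Big S p) {h0 : ZMod m} (hh0 : Small S p h0) :
    ∃ h, Small S p h ∧ ¬ (p : ℤ) ∣ augA (bP (cls ℤ S h)) := by
  by_contra hne
  simp only [not_exists, not_and, not_not] at hne
  have hY : ∀ F, S.Inv F → (p : ℤ) ∣ augA (bP F) := fun F hF =>
    mem_multiples.1 (span_small hm hpm hbig ((augA.toAddMonoidHom).comp bP) (multiples ℤ (p : ℤ))
      (mem_multiples.2 (by simp [bP_one]))
      (mem_multiples.2 (by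
        have : bP (allD ℤ m) = allA ℤ m := extA fun i => rfl
        simp [this, augA_allA, Int.natCast_dvd_natCast.2 hpm]))
      (fun h hh => mem_multiples.2 (by simpa using hne h hh)) hF)
  have halpha : ∀ j, 1 ≤ j → ∀ F G, S.Inv F → S.Inv G → (p : ℤ) ^ j ∣ alpha m p F G := by
    intro j hj
    induction j, hj using Nat.le_induction with
    | base =>
      intro F G hF hG
      rw [pow_one]
      have := alpha_congr hpm hbig hF hG
      rwa [dvd_sub_left (dvd_mul_of_dvd_left (hY F hF) _)] at this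
    | succ j hj ih =>
      intro F G hF hG
      let f : DR ℤ m →+ ℤ :=
        { toFun := fun F => alpha m p F G
          map_zero' := by simp [alpha]
          map_add' := fun a b => by simp [alpha, add_mul]; ring }
      refine mem_multiples.1 (span_small hm hpm hbig f (multiples ℤ _) ?_ ?_ ?_ hF)
      · rw [mem_multiples]
        show (p : ℤ) ^ (j + 1) ∣ alpha m p 1 G
        rw [alpha, one_mul, uHom_one hpm, one_mul, sub_self]
        exact dvd_zero _
      · rw [mem_multiples]
        show (p : ℤ) ^ (j + 1) ∣ alpha m p (allD ℤ m) G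
        have e : alpha m p (allD ℤ m) G = 0 := by
          apply Int.cast_injective (α := ℂ)
          rw [alpha_eq hpm hbig (show S.Inv (allD ℤ m) from S.inv_const 1) hG, yHom_allD, map_zero, zero_mul, Int.cast_zero]
        rw [e]
        exact dvd_zero _
      · intro h hh
        rw [mem_multiples]
        show (p : ℤ) ^ (j + 1) ∣ alpha m p (cls ℤ S h) G
        set U := cls ℤ S h
        have hU : S.Inv U := inv_cls h
        have hu : ∀ k, (p : ℤ) ^ j ∣ uHom m p (U ^ k) - uHom m p U ^ k := by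
          intro k
          induction k with
          | zero => simp [uHom_one hpm]
          | succ k ihk =>
            rw [show uHom m p (U ^ (k + 1)) - uHom m p U ^ (k + 1) = alpha m p (U ^ k) U
              + uHom m p U * (uHom m p (U ^ k) - uHom m p U ^ k) by
                rw [alpha, pow_succ U k]; ring]
            exact dvd_add (ih _ _ (S.inv_pow hU k) hU) (dvd_mul_of_dvd_right ihk _)
        have ha : ∀ k : ℕ, (p : ℤ) ^ (j + 1) ∣
            alpha m p (U ^ k) G - (k : ℤ) * uHom m p U ^ (k - 1) * alpha m p U G := by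
          intro k
          induction k with
          | zero => simp [alpha, uHom_one hpm]
          | succ k ihk =>
            rw [pow_succ U k, alpha_mul hpm hbig (S.inv_pow hU k) hU hG, Nat.add_sub_cancel,
              show uHom m p (U ^ k) * alpha m p U G + uHom m p U * alpha m p (U ^ k) G
                - ((k + 1 : ℕ) : ℤ) * uHom m p U ^ k * alpha m p U G =
                (uHom m p (U ^ k) - uHom m p U ^ k) * alpha m p U G
                + uHom m p U * (alpha m p (U ^ k) G - (k : ℤ) * uHom m p U ^ (k - 1) * alpha m p U G) by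
                cases k with
                | zero => simp; ring
                | succ k => push_cast [Nat.add_sub_cancel]; ring]
            refine dvd_add ?_ (dvd_mul_of_dvd_right ihk _)
            refine dvd_trans (pow_dvd_pow _ (show j + 1 ≤ j + j by omega)) ?_
            rw [pow_add]
            exact mul_dvd_mul (hu k) (ih U G hU hG)
        obtain ⟨G', hG', hUG⟩ := exists_pow_eq hS hm hpm hn hbig hh
        have e : alpha m p U G = alpha m p (U ^ p) G - (p : ℤ) * alpha m p G' G := by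
          rw [hUG]
          simp only [alpha, add_mul, smul_mul_assoc, map_add, map_zsmul, smul_eq_mul]
          ring
        rw [e]
        refine dvd_sub ?_ (by rw [pow_succ']; exact mul_dvd_mul_left _ (ih G' G hG' hG))
        have h' := ha p
        rwa [dvd_sub_left] at h'
        rw [pow_succ', mul_assoc]
        exact mul_dvd_mul_left _ (dvd_mul_of_dvd_right (ih U G hU hG) _)
  have hA0 : ∀ F G, S.Inv F → S.Inv G → alpha m p F G = 0 := fun F G hF hG =>
    int_eq_of_forall_pow_dvd (p := p) fun j hj => by rw [sub_zero]; exact halpha j hj F G hF hG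
  have hupow : ∀ F, S.Inv F → ∀ k, uHom m p (F ^ k) = uHom m p F ^ k := by
    intro F hF k
    induction k with
    | zero => simp [uHom_one hpm]
    | succ k ih =>
      have e := hA0 _ _ (S.inv_pow hF k) hF
      rw [alpha, ← pow_succ, ih, ← pow_succ] at e
      linarith
  have heq : uHom m p (cls ℤ S h0) = sgn (cls ℤ S h0) :=
    int_eq_of_forall_pow_dvd (p := p) fun j hj =>
      lift_congr hS hm hpm hn hbig (R := ℤ) (uHom m p) (sgn (R := ℤ)).toAddMonoidHom
        (by simp [uHom_one hpm]) (by simp [uHom_allD, sgn_allD])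
        (fun h _ k => hupow _ (inv_cls h) k) (fun h _ k => map_pow sgn _ k)
        (fun F hF => by
          have e := u_congr hpm hbig hF
          have : uHom m p F - sgn F = augA (bP F) - (m : ℤ) * F.coeff (r (zp m p)) := by
            rw [sgn_apply, e]; ring
          simp only [RingHom.toAddMonoidHom_eq_coe, AddMonoidHom.coe_coe, this]
          exact dvd_sub (hY F hF) (dvd_mul_of_dvd_left (Int.natCast_dvd_natCast.2 hpm) _))
        j hj _ (inv_cls h0)
  rw [uHom_small hbig hh0, sgn_apply] at heq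
  have := augA_bP_pos S hh0.2.1
  linarith

lemma exists_sqrt {a y : ℤ} (hy : ¬ (p : ℤ) ∣ y) (hp2 : p ≠ 2) (h : (p : ℤ) ∣ a - y * y) :
    ∀ N, 1 ≤ N → ∃ s : ℤ, (p : ℤ) ^ N ∣ a - s * s ∧ (p : ℤ) ∣ s - y := by
  intro N hN
  induction N, hN using Nat.le_induction with
  | base => exact ⟨y, by rwa [pow_one], by simp⟩
  | succ N hN ih =>
    obtain ⟨s, ⟨c, hc⟩, hs⟩ := ih
    have hP : Prime (p : ℤ) := Nat.prime_iff_prime_int.1 hp.out
    have hs2 : ¬ (p : ℤ) ∣ 2 * s := by
      intro e
      rcases hP.dvd_or_dvd e with e | e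
      · have := Nat.le_of_dvd (by norm_num) (Int.natCast_dvd_natCast.1 (show (p : ℤ) ∣ ((2 : ℕ) : ℤ) from e))
        have := hp.out.two_le
        omega
      · exact hy (by simpa using dvd_sub e hs)
    obtain ⟨u, v, huv⟩ := (Prime.coprime_iff_not_dvd hP).2 hs2
    refine ⟨s + v * c * (p : ℤ) ^ N, ?_, ?_⟩
    · refine ⟨u * c - v * v * c * c * (p : ℤ) ^ (N - 1), ?_⟩
      obtain ⟨M, rfl⟩ : ∃ M, N = M + 1 := ⟨N - 1, by omega⟩
      rw [Nat.add_sub_cancel]
      linear_combination hc - (p : ℤ) ^ (M + 1) * c * huv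
    · rw [show s + v * c * (p : ℤ) ^ N - y = (s - y) + v * c * (p : ℤ) ^ N by ring]
      exact dvd_add hs (dvd_mul_of_dvd_right (dvd_pow_self _ (by omega)) _)

/-- The pairing of a small set with itself is the square of the augmentation. -/
lemma alpha_self (hS : S.Rational) (hm : 2 ≤ m) (hpm : p ∣ m) {n : ℕ} (hn : p = 2 * n + 1)
    (hbig : Big S p) {h0 : ZMod m} (hh0 : Small S p h0)
    (hy : ¬ (p : ℤ) ∣ augA (bP (cls ℤ S h0))) :
    alpha m p (cls ℤ S h0) (cls ℤ S h0) = augA (bP (cls ℤ S h0)) * augA (bP (cls ℤ S h0)) := by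
  set U0 := cls ℤ S h0
  have hU0 : S.Inv U0 := inv_cls h0
  set Y0 := augA (bP U0)
  set a0 := alpha m p U0 U0
  have hP : Prime (p : ℤ) := Nat.prime_iff_prime_int.1 hp.out
  refine int_eq_of_forall_pow_dvd (p := p) fun N hN => ?_
  obtain ⟨s, hs, hsY⟩ := exists_sqrt hy (by omega) (alpha_congr hpm hbig hU0 hU0) N hN
  have hps : ¬ (p : ℤ) ∣ s := fun e => hy (by simpa using dvd_sub e hsY)
  obtain ⟨u, w, huw⟩ : ∃ u w : ℤ, u * (p : ℤ) ^ N + w * s = 1 :=
    ((Prime.coprime_iff_not_dvd hP).2 hps).pow_left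
  have hpN : ((p : ℤ) : (ZMod (p ^ N))) ^ N = 0 := by
    rw [← Int.cast_pow, ← Nat.cast_pow, Int.cast_natCast, ZMod.natCast_self]
  have hws : (w : (ZMod (p ^ N))) * (s : (ZMod (p ^ N))) = 1 := by
    have := congrArg (fun z : ℤ => (z : (ZMod (p ^ N)))) huw
    push_cast at this
    rw [Int.cast_natCast] at hpN
    rw [hpN, mul_zero, zero_add] at this
    exact this
  have ha0 : (a0 : (ZMod (p ^ N))) = (s : (ZMod (p ^ N))) * (s : (ZMod (p ^ N))) := by
    obtain ⟨c, hc⟩ := hs
    have := congrArg (fun z : ℤ => (z : (ZMod (p ^ N)))) hc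
    push_cast at this
    rw [Int.cast_natCast] at hpN
    rw [hpN, zero_mul, sub_eq_zero] at this
    exact this
  let hv : DR ℤ m →+ (ZMod (p ^ N)) :=
    { toFun := fun F => (uHom m p F : (ZMod (p ^ N))) - (alpha m p F U0 : (ZMod (p ^ N))) * (w : (ZMod (p ^ N)))
      map_zero' := by simp [alpha]
      map_add' := fun a b => by simp [alpha, add_mul]; ring }
  have hv_apply : ∀ F, hv F = (uHom m p F : (ZMod (p ^ N))) - (alpha m p F U0 : (ZMod (p ^ N))) * (w : (ZMod (p ^ N))) := fun _ => rfl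
  have hv1 : hv 1 = 1 := by
    simp [hv_apply, alpha, uHom_one hpm]
  have hvD : hv (allD ℤ m) = 0 := by
    have e : alpha m p (allD ℤ m) U0 = 0 := by
      apply Int.cast_injective (α := ℂ)
      rw [alpha_eq hpm hbig (show S.Inv (allD ℤ m) from S.inv_const 1) hU0, yHom_allD, map_zero, zero_mul, Int.cast_zero]
    simp [hv_apply, e, uHom_allD]
  have hvmul : ∀ F G, S.Inv F → S.Inv G → hv (F * G) = hv F * hv G := by
    intro F G hF hG
    have e1 : ((uHom m p (F * G) : ℤ) : (ZMod (p ^ N))) =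
        (uHom m p F : (ZMod (p ^ N))) * (uHom m p G : (ZMod (p ^ N))) + (alpha m p F G : (ZMod (p ^ N))) := by
      rw [alpha]; push_cast; ring
    have e2 := congrArg (fun z : ℤ => (z : (ZMod (p ^ N)))) (alpha_mul hpm hbig hF hG hU0)
    have e3 := congrArg (fun z : ℤ => (z : (ZMod (p ^ N)))) (alpha_cross hpm hbig hF hG hU0)
    push_cast at e2 e3
    rw [hv_apply, hv_apply, hv_apply, e1, e2]
    linear_combination -(w : (ZMod (p ^ N))) ^ 2 * e3 - (alpha m p F G : (ZMod (p ^ N))) * ((w : (ZMod (p ^ N))) * (s : (ZMod (p ^ N))) + 1) * hws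
      - (alpha m p F G : (ZMod (p ^ N))) * (w : (ZMod (p ^ N))) ^ 2 * ha0
  have hvpow : ∀ F, S.Inv F → ∀ k, hv (F ^ k) = hv F ^ k := by
    intro F hF k
    induction k with
    | zero => rw [pow_zero, pow_zero, hv1]
    | succ k ih => rw [pow_succ, pow_succ, hvmul _ _ (S.inv_pow hF k) hF, ih]
  let gv : DR ℤ m →+ (ZMod (p ^ N)) := (Int.castAddHom (ZMod (p ^ N))).comp (sgn (R := ℤ)).toAddMonoidHom
  have gv_apply : ∀ F, gv F = ((sgn F : ℤ) : (ZMod (p ^ N))) := fun _ => rfl
  have hfin := lift_congr hS hm hpm hn hbig hv gv (by rw [hv1, gv_apply, map_one, Int.cast_one])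
    (by rw [hvD, gv_apply, sgn_allD, Int.cast_zero]) (fun h _ k => hvpow _ (inv_cls h) k)
    (fun h _ k => by rw [gv_apply, gv_apply, map_pow, Int.cast_pow])
    (fun F hF => by
      obtain ⟨c1, hc1⟩ := alpha_congr hpm hbig hF hU0
      obtain ⟨c2, hc2⟩ := hsY
      obtain ⟨q, hq⟩ := Int.natCast_dvd_natCast.2 hpm
      have e := u_congr hpm hbig hF
      refine ⟨((-q * F.coeff (r (zp m p)) - c1 * w + augA (bP F) * c2 * w : ℤ) : (ZMod (p ^ N))), ?_⟩
      have e1 := congrArg (fun z : ℤ => (z : (ZMod (p ^ N)))) hc1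
      have e2 := congrArg (fun z : ℤ => (z : (ZMod (p ^ N)))) hc2
      have e3 := congrArg (fun z : ℤ => (z : (ZMod (p ^ N)))) hq
      push_cast at e1 e2 e3
      rw [hv_apply, gv_apply, sgn_apply, e]
      push_cast
      linear_combination -(w : (ZMod (p ^ N))) * e1 + ((augA (bP F) : ℤ) : (ZMod (p ^ N))) * (w : (ZMod (p ^ N))) * e2
        - ((augA (bP F) : ℤ) : (ZMod (p ^ N))) * hws - (F.coeff (r (zp m p)) : (ZMod (p ^ N))) * e3)
    N hN U0 hU0
  rw [show ((p : (ZMod (p ^ N)))) ^ N = 0 by rwa [Int.cast_natCast] at hpN, zero_dvd_iff, sub_eq_zero, hv_apply,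
    gv_apply, sgn_apply, uHom_small hbig hh0] at hfin
  push_cast at hfin
  have hsY0 : (s : (ZMod (p ^ N))) = (Y0 : (ZMod (p ^ N))) := by
    linear_combination -hfin - (w : (ZMod (p ^ N))) * ha0 - (s : (ZMod (p ^ N))) * hws
  have : ((a0 - Y0 * Y0 : ℤ) : (ZMod (p ^ N))) = 0 := by
    push_cast
    rw [ha0, hsY0, sub_self]
  rw [ZMod.intCast_zmod_eq_zero_iff_dvd] at this
  exact_mod_cast this

/-- For an odd prime divisor, there are no small basic sets. -/
theorem no_small (hS : S.Rational) (hm : 2 ≤ m) (hpm : p ∣ m) {n : ℕ} (hn : p = 2 * n + 1)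
    (hbig : Big S p) (h0 : ZMod m) : ¬ Small S p h0 := by
  intro hh0
  obtain ⟨h, hh, hy⟩ := exists_not_dvd hS hm hpm hn hbig hh0
  have hU : S.Inv (cls ℤ S h) := inv_cls h
  have hsq := alpha_self hS hm hpm hn hbig hh hy
  set Y : ZMod m → ℝ := fun i => ((cls ℤ S h).coeff (sr i) : ℝ)
  have hYnn : ∀ i, 0 ≤ Y i := fun i => by
    simp only [Y, coeff_ind]; split_ifs <;> norm_num
  have e1 : ∑ i, ∑ j, Y i * Y j * (1 - (psi hpm (j - i)).re) = 0 := by
    have e := alpha_eq hpm hbig hU hU
    rw [hsq, yHom_apply, Psi_apply, map_sum, Finset.sum_mul_sum] at e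
    have er := congrArg Complex.re e
    rw [Complex.intCast_re, Complex.re_sum] at er
    simp only [Complex.re_sum, map_mul, map_intCast] at er
    have hterm : ∀ i j, (((bP (cls ℤ S h)).coeff i : ℂ) * conj (psi hpm i) *
        (((bP (cls ℤ S h)).coeff j : ℂ) * psi hpm j)).re = Y i * Y j * (psi hpm (j - i)).re := by
      intro i j
      rw [sub_eq_add_neg j i, AddChar.map_add_eq_mul, AddChar.map_neg_eq_conj,
        show ((bP (cls ℤ S h)).coeff i : ℂ) * conj (psi hpm i) *
          (((bP (cls ℤ S h)).coeff j : ℂ) * psi hpm j)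
          = ((Y i * Y j : ℝ) : ℂ) * (psi hpm j * conj (psi hpm i)) by
            simp [Y]; ring, Complex.re_ofReal_mul]
    simp only [hterm] at er
    simp only [mul_sub, mul_one, Finset.sum_sub_distrib, ← er]
    rw [← Finset.sum_mul_sum, augA_apply]
    push_cast
    simp [Y]
  have hre : ∀ i j : ZMod m, 0 ≤ Y i * Y j * (1 - (psi hpm (j - i)).re) := fun i j => by
    refine mul_nonneg (mul_nonneg (hYnn i) (hYnn j)) (sub_nonneg.2 ?_)
    exact (Complex.re_le_norm _).trans_eq (AddChar.norm_apply _ _)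
  have hall : ∀ i j, S.rel (r h) (sr i) → S.rel (r h) (sr j) →
      ZMod.castHom hpm (ZMod p) (j - i) = 0 := by
    intro i j hi hj
    have h1 := (Finset.sum_eq_zero_iff_of_nonneg (fun i _ => Finset.sum_nonneg fun j _ => hre i j)).1 e1 i
      (Finset.mem_univ i)
    have h2 := (Finset.sum_eq_zero_iff_of_nonneg (fun j _ => hre i j)).1 h1 j (Finset.mem_univ j)
    simp only [Y, coeff_ind, if_pos hi, if_pos hj, Int.cast_one, one_mul, sub_eq_zero] at h2
    rw [← psi_eq_one_iff hpm]
    have hn1 : ‖psi hpm (j - i)‖ = 1 := AddChar.norm_apply _ _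
    have hsq' := Complex.normSq_apply (psi hpm (j - i))
    rw [Complex.normSq_eq_norm_sq, hn1, ← h2] at hsq'
    refine Complex.ext h2.symm ?_
    rw [Complex.one_im]
    exact mul_self_eq_zero.1 (by linarith)
  obtain ⟨c, hc⟩ := S.meets_sr (x := r h) fun e => hh.2.1 (r_eq_one_iff.1 e)
  set φ := ZMod.castHom hpm (ZMod p)
  let W : Subgroup (DihedralGroup m) :=
    { carrier := {g | match g with
        | r i => φ i = 0
        | sr i => φ i = φ c}
      one_mem' := map_zero φ
      mul_mem' := fun {a b} ha hb => by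
        cases a <;> cases b <;> simp_all
      inv_mem' := fun {a} ha => by
        cases a <;> simp_all }
  have hW : W ≠ ⊤ := fun e => by
    have : r (1 : ZMod m) ∈ W := e ▸ Subgroup.mem_top _
    exact one_ne_zero ((map_one φ).symm.trans this)
  refine hh.2.1 (r_eq_one_iff.1 (S.contained W hW fun g hg => ?_))
  cases g with
  | r i =>
    exact castHom_of_preg hpm (by_contra fun e => hh.2.2 (S.equiv.trans hg (hbig i e)))
  | sr i =>
    have := hall c i hc hg
    rw [map_sub, sub_eq_zero] at this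
    exact this

end Cfsg.Agent.P3572
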