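import Cfsg.Agent.P3572.Rank

/-! Primitive groups with a regular dihedral subgroup. -/

set_option autoImplicit false

namespace Cfsg.Agent.P3572

open DihedralGroup Pointwise
open scoped Classical

variable {G Ω : Type*} [Group G] [MulAction G Ω] {m : ℕ}

/-- Transitivity of the point stabiliser from a regular dihedral subgroup. -/
theorem two_pretransitive [Finite G] (hprim : MulAction.IsPreprimitive G Ω) (D : Subgroup G)
    (e : ↥D ≃* DihedralGroup m) (htr : MulAction.IsPretransitive ↥D Ω)
    (hstab : ∀ a : Ω, MulAction.stabilizer ↥D a = ⊥) :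
    MulAction.IsMultiplyPretransitive G Ω 2 := by
  rcases isEmpty_or_nonempty Ω with hΩ | ⟨⟨ω⟩⟩
  · rw [MulAction.is_two_pretransitive_iff]
    intro a
    exact (hΩ.false a).elim
  haveI : Finite (DihedralGroup m) := Finite.of_equiv ↥D e.toEquiv
  haveI : NeZero m := ⟨fun h => by subst h; exact not_finite (DihedralGroup 0)⟩
  set φ : DihedralGroup m → Ω := fun d => ((e.symm d : ↥D) : G) • ω
  have hφmul : ∀ a b, φ (a * b) = ((e.symm a : ↥D) : G) • φ b := fun a b => by
    simp only [φ, map_mul, Subgroup.coe_mul, mul_smul]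
  have hφ1 : φ 1 = ω := by simp [φ]
  have hsurj : ∀ w, ∃ d, φ d = w := fun w => by
    obtain ⟨d, hd⟩ := MulAction.exists_smul_eq ↥D ω w
    exact ⟨e d, by simp only [φ, MulEquiv.symm_apply_apply]; exact hd⟩
  have hinj : ∀ a b, φ a = φ b → a = b := fun a b h => by
    have h' : (e.symm b)⁻¹ * e.symm a ∈ MulAction.stabilizer ↥D ω := by
      rw [MulAction.mem_stabilizer_iff, mul_smul, inv_smul_eq_iff]
      exact h
    rw [hstab ω, Subgroup.mem_bot, inv_mul_eq_one] at h'
    exact (e.symm.injective h').symm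
  have hcancel : ∀ a b, ((e.symm a : ↥D) : G)⁻¹ • φ b = φ (a⁻¹ * b) := fun a b => by
    rw [hφmul, map_inv, Subgroup.coe_inv]
  let φe : DihedralGroup m ≃ Ω := Equiv.ofBijective φ ⟨fun a b => hinj a b, hsurj⟩
  let σ : G → DihedralGroup m ≃ DihedralGroup m := fun g =>
    φe.trans ((MulAction.toPerm g).trans φe.symm)
  have hσ : ∀ g x, φ (σ g x) = g • φ x := fun g x => φe.apply_symm_apply _
  let rel : DihedralGroup m → DihedralGroup m → Prop := fun x y =>
    ∃ g : G, g • ω = ω ∧ g • φ x = φ y
  have hrelσ : ∀ {g : G}, g • ω = ω → ∀ a b, rel (a⁻¹ * b) ((σ g a)⁻¹ * σ g b) := by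
    intro g hg a b
    refine ⟨((e.symm (σ g a) : ↥D) : G)⁻¹ * g * ((e.symm a : ↥D) : G), ?_, ?_⟩
    · conv_lhs => rw [← hφ1]
      rw [mul_smul, mul_smul, ← hφmul, mul_one, ← hσ, hcancel, inv_mul_cancel, hφ1]
    · rw [mul_smul, mul_smul, ← hφmul, mul_inv_cancel_left, ← hσ, hcancel]
  let S : SR m :=
    { rel := rel
      equiv := ⟨fun x => ⟨1, one_smul _ _, one_smul _ _⟩,
        fun {x y} ⟨g, h1, h2⟩ => ⟨g⁻¹, by rw [inv_smul_eq_iff, h1], by rw [inv_smul_eq_iff, h2]⟩,
        fun {x y z} ⟨g, h1, h2⟩ ⟨g', h1', h2'⟩ =>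
          ⟨g' * g, by rw [mul_smul, h1, h1'], by rw [mul_smul, h2, h2']⟩⟩
      one := fun x ⟨g, h1, h2⟩ => by
        rw [hφ1, h1, ← hφ1] at h2
        exact (hinj _ _ h2).symm
      inv := fun x y ⟨g, h1, h2⟩ => by
        have h := hrelσ h1 x 1
        have e1 : σ g x = y := hinj _ _ (by rw [hσ, h2])
        have e2 : σ g 1 = 1 := hinj _ _ (by rw [hσ, hφ1, h1])
        rwa [mul_one, e1, e2, mul_one] at h
      mul := fun F H hF hH x y ⟨g, h1, h2⟩ => by
        have e1 : σ g x = y := hinj _ _ (by rw [hσ, h2])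
        have e2 : σ g 1 = 1 := hinj _ _ (by rw [hσ, hφ1, h1])
        rw [coeffD_mul, coeffD_mul]
        refine Fintype.sum_equiv (σ g) _ _ fun a => ?_
        have hFa : F.coeff (σ g a) = F.coeff a := by
          have := hrelσ h1 1 a
          rw [inv_one, one_mul, e2, inv_one, one_mul] at this
          exact (hF _ _ this).symm
        rw [hFa, hH _ _ (hrelσ h1 a x), e1]
      prim := fun K hK => by
        have hB : MulAction.IsBlock G (φ '' (K : Set (DihedralGroup m))) := by
          rw [MulAction.isBlock_iff_smul_eq_or_disjoint]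
          intro g
          set c := σ g 1
          set τ : G := ((e.symm c : ↥D) : G)⁻¹ * g
          have hτ : τ • ω = ω := by
            have hc : g • ω = φ c := by rw [hσ, hφ1]
            rw [mul_smul, hc, hcancel, inv_mul_cancel, hφ1]
          have hmem : ∀ k, σ τ k ∈ K ↔ k ∈ K := fun k =>
            (hK k (σ τ k) ⟨τ, hτ, (hσ τ k).symm⟩).symm
          have himg : g • (φ '' (K : Set (DihedralGroup m))) = φ '' {d | c⁻¹ * d ∈ K} := by
            ext w
            constructor
            · rintro ⟨_, ⟨k, hk, rfl⟩, rfl⟩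
              refine ⟨c * σ τ k, by simpa using (hmem k).2 hk, ?_⟩
              show _ = g • φ k
              rw [hφmul, hσ, mul_smul, smul_inv_smul]
            · rintro ⟨d, hd, rfl⟩
              refine ⟨φ ((σ τ).symm (c⁻¹ * d)), ⟨_, (hmem _).1 (by simpa using hd), rfl⟩, ?_⟩
              show g • _ = _
              have h1 := hσ τ ((σ τ).symm (c⁻¹ * d))
              rw [Equiv.apply_symm_apply, mul_smul, eq_inv_smul_iff, ← hφmul, mul_inv_cancel_left] at h1
              exact h1.symm
          rw [himg]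
          by_cases hc : c ∈ K
          · left
            congr 1
            ext d
            exact ⟨fun h => by simpa using K.mul_mem hc h, fun h => K.mul_mem (K.inv_mem hc) h⟩
          · right
            rw [Set.disjoint_left]
            rintro _ ⟨d, hd, rfl⟩ ⟨k, hk, hkd⟩
            rw [hinj _ _ hkd] at hk
            apply hc
            have := K.mul_mem hk (K.inv_mem hd)
            simpa [mul_assoc] using this
        rcases hprim.isTrivialBlock_of_isBlock hB with h | h
        · left
          rw [eq_bot_iff]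
          intro k hk
          exact hinj _ _ (h ⟨k, hk, rfl⟩ ⟨1, K.one_mem, rfl⟩)
        · right
          rw [eq_top_iff]
          intro k _
          obtain ⟨k', hk', e'⟩ : φ k ∈ φ '' (K : Set (DihedralGroup m)) := h ▸ Set.mem_univ _
          exact hinj _ _ e' ▸ hk' }
  have htrans : ∀ x y : DihedralGroup m, x ≠ 1 → y ≠ 1 → rel x y := by
    intro x y hx hy
    by_cases hm : 2 ≤ m
    · exact rank_two S hm hx hy
    · have hm1 : m = 1 := by have := NeZero.pos m; omega
      subst hm1
      have hsr : ∀ z : DihedralGroup 1, z ≠ 1 → z = sr 0 := fun z hz => by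
        cases z with
        | r i => exact absurd (by rw [DihedralGroup.one_def, Subsingleton.elim i 0]) hz
        | sr i => rw [Subsingleton.elim i 0]
      rw [hsr x hx, hsr y hy]
      exact ⟨1, one_smul _ _, one_smul _ _⟩
  have hmove : ∀ w : Ω, ∃ u : G, u • w = ω := fun w => by
    obtain ⟨d, rfl⟩ := hsurj w
    exact ⟨((e.symm d : ↥D) : G)⁻¹, by rw [hcancel, inv_mul_cancel, hφ1]⟩
  rw [MulAction.is_two_pretransitive_iff]
  intro a b c d hab hcd
  obtain ⟨u, hu⟩ := hmove a
  obtain ⟨v, hv⟩ := hmove c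
  obtain ⟨x, hx⟩ := hsurj (u • b)
  obtain ⟨y, hy⟩ := hsurj (v • d)
  obtain ⟨g, hg1, hg2⟩ := htrans x y
    (fun h => hab (MulAction.injective u (by show u • a = u • b; rw [hu, ← hx, h, hφ1])))
    (fun h => hcd (MulAction.injective v (by show v • c = v • d; rw [hv, ← hy, h, hφ1])))
  refine ⟨v⁻¹ * g * u, ?_, ?_⟩
  · rw [mul_smul, mul_smul, hu, hg1, inv_smul_eq_iff, hv]
  · rw [mul_smul, mul_smul, ← hx, hg2, inv_smul_eq_iff, hy]

end Cfsg.Agent.P3572
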