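import Cfsg.Agent.P3572.Basic

/-! Periodicity modulo the subgroup of prime order. -/

set_option autoImplicit false

namespace Cfsg.Agent.P3572

open DihedralGroup
open scoped Classical

variable {m : ℕ} [NeZero m] {p : ℕ} [hp : Fact p.Prime]

/-- The element of order `p`. -/
def zp (m p : ℕ) : ZMod m := ((m / p : ℕ) : ZMod m)

lemma p_smul_zp (hpm : p ∣ m) : p • zp m p = 0 := by
  rw [zp, nsmul_eq_mul, ← Nat.cast_mul, Nat.mul_div_cancel' hpm, ZMod.natCast_self]

lemma addOrderOf_zp (hpm : p ∣ m) : addOrderOf (zp m p) = p := by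
  rw [zp, ZMod.addOrderOf_coe _ (NeZero.ne m), Nat.gcd_eq_right (Nat.div_dvd_of_dvd hpm),
    Nat.div_div_self hpm (NeZero.ne m)]

lemma zp_ne_zero (hpm : p ∣ m) : zp m p ≠ 0 := fun h => by
  have := addOrderOf_zp (m := m) hpm
  rw [h, addOrderOf_zero] at this
  exact hp.out.one_lt.ne this

lemma exists_of_smul_eq (hpm : p ∣ m) {i i0 : ZMod m} (h : p • i = p • i0) :
    ∃ j < p, i = i0 + j • zp m p := by
  have h' : p • (i - i0) = 0 := by rw [nsmul_sub, h, sub_self]
  rw [nsmul_eq_mul, ← ZMod.natCast_zmod_val (i - i0), ← Nat.cast_mul, ZMod.natCast_eq_zero_iff] at h'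
  obtain ⟨d, hd⟩ : m / p ∣ (i - i0).val :=
    Nat.dvd_of_mul_dvd_mul_left hp.out.pos (by rwa [Nat.mul_div_cancel' hpm])
  refine ⟨d, ?_, ?_⟩
  · by_contra hcon
    have h1 : p * (m / p) ≤ d * (m / p) := Nat.mul_le_mul_right _ (not_lt.mp hcon)
    rw [Nat.mul_div_cancel' hpm, mul_comm d, ← hd] at h1
    exact absurd (ZMod.val_lt (i - i0)) (not_lt.mpr h1)
  · have : i - i0 = d • zp m p := by
      rw [← ZMod.natCast_zmod_val (i - i0), hd, zp, nsmul_eq_mul, Nat.cast_mul, mul_comm]
    rw [← this, add_sub_cancel]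

lemma smul_add_zp (hpm : p ∣ m) (i : ZMod m) (j : ℕ) : p • (i + j • zp m p) = p • i := by
  rw [nsmul_add, ← mul_nsmul, mul_comm, mul_nsmul, p_smul_zp hpm, nsmul_zero, add_zero]

/-- The fibre of multiplication by `p`. -/
noncomputable def fib (p : ℕ) (i : ZMod m) : Finset (ZMod m) := Finset.univ.filter fun x => p • x = p • i

lemma fib_eq (hpm : p ∣ m) (i : ZMod m) :
    fib p i = (Finset.range p).image (fun j : ℕ => i + j • zp m p) := by
  ext x
  simp only [fib, Finset.mem_filter, Finset.mem_univ, true_and, Finset.mem_image, Finset.mem_range]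
  refine ⟨fun h => ?_, ?_⟩
  · obtain ⟨j, hj, rfl⟩ := exists_of_smul_eq hpm h
    exact ⟨j, hj, rfl⟩
  · rintro ⟨j, -, rfl⟩
    exact smul_add_zp hpm i j

lemma fib_injOn (hpm : p ∣ m) (i : ZMod m) :
    Set.InjOn (fun j : ℕ => i + j • zp m p) (Finset.range p : Set ℕ) := by
  intro a ha b hb h
  have := nsmul_injOn_Iio_addOrderOf (x := zp m p)
  rw [addOrderOf_zp hpm] at this
  exact this (by simpa using ha) (by simpa using hb) (add_left_cancel h)

lemma card_fib (hpm : p ∣ m) (i : ZMod m) : (fib p i).card = p := by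
  rw [fib_eq hpm, Finset.card_image_of_injOn (fib_injOn hpm i), Finset.card_range]

lemma periodic_smul {α : Type*} {g : ZMod m → α} (hg : ∀ i, g (i + zp m p) = g i) (i : ZMod m) :
    ∀ j : ℕ, g (i + j • zp m p) = g i := by
  intro j
  induction j with
  | zero => simp
  | succ j ih => rw [succ_nsmul, ← add_assoc, hg, ih]

lemma sum_fib {M : Type*} [AddCommMonoid M] (hpm : p ∣ m) {g : ZMod m → M}
    (hg : ∀ i, g (i + zp m p) = g i) (i : ZMod m) : ∑ x ∈ fib p i, g x = p • g i := by
  rw [fib_eq hpm, Finset.sum_image (fib_injOn hpm i),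
    Finset.sum_congr rfl (fun j _ => periodic_smul hg i j), Finset.sum_const, Finset.card_range]

lemma sum_periodic {M : Type*} [AddCommMonoid M] (hpm : p ∣ m) {g : ZMod m → M}
    (hg : ∀ i, g (i + zp m p) = g i) :
    ∃ T : Finset (ZMod m), ∑ x, g x = p • ∑ x ∈ T, g x := by
  let f : ZMod m → ZMod m := fun x => p • x
  have hc : ∀ k ∈ Finset.univ.image f, ∃ i, f i = k := fun k hk => by
    obtain ⟨i, -, hi⟩ := Finset.mem_image.1 hk
    exact ⟨i, hi⟩
  choose c hc using hc
  refine ⟨(Finset.univ.image f).attach.image (fun k => c k.1 k.2), ?_⟩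
  have hsplit : ∑ x, g x = ∑ k ∈ Finset.univ.image f, ∑ x ∈ Finset.univ.filter (fun x => f x = k), g x :=
    (Finset.sum_fiberwise_of_maps_to (fun x hx => Finset.mem_image_of_mem f hx) g).symm
  rw [hsplit, Finset.smul_sum, Finset.sum_image (s := (Finset.univ.image f).attach),
    ← Finset.sum_attach (Finset.univ.image f)]
  · refine Finset.sum_congr rfl fun k _ => ?_
    rw [← sum_fib hpm hg (c k.1 k.2)]
    exact Finset.sum_congr (by
      ext x
      simp only [fib, Finset.mem_filter, Finset.mem_univ, true_and]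
      rw [show p • c k.1 k.2 = k.1 from hc k.1 k.2]) fun _ _ => rfl
  · intro a _ b _ h
    apply Subtype.ext
    rw [← hc a.1 a.2, show c a.1 a.2 = c b.1 b.2 from h, hc b.1 b.2]

lemma sum_periodic_zero (hpm : p ∣ m) {g : ZMod m → ZMod p} (hg : ∀ i, g (i + zp m p) = g i) :
    ∑ x, g x = 0 := by
  obtain ⟨T, hT⟩ := sum_periodic hpm hg
  rw [hT, nsmul_eq_mul, ZMod.natCast_self, zero_mul]

lemma sum_periodic_dvd (hpm : p ∣ m) {g : ZMod m → ℤ} (hg : ∀ i, g (i + zp m p) = g i) {d : ℤ}
    (hd : ∀ i, d ∣ g i) : (p : ℤ) * d ∣ ∑ x, g x := by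
  obtain ⟨T, hT⟩ := sum_periodic hpm hg
  rw [hT, nsmul_eq_mul]
  exact mul_dvd_mul_left _ (Finset.dvd_sum fun i _ => hd i)

/-- Translation invariance by the element of order `p`. -/
def Per (p : ℕ) {R : Type} [CommRing R] (X : AR R m) : Prop :=
  ∀ i, X.coeff (i + zp m p) = X.coeff i

variable {R : Type} [CommRing R]

omit hp in
lemma per_mul {X : AR R m} (hX : Per p X) (W : AR R m) : Per p (X * W) := fun k => by
  rw [coeffA_mul, coeffA_mul, ← Equiv.sum_comp (Equiv.addRight (zp m p))]
  refine Finset.sum_congr rfl fun i _ => ?_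
  simp only [Equiv.coe_addRight]
  rw [hX i, add_sub_add_right_eq_sub]

omit hp in
lemma per_st {X : AR R m} (hX : Per p X) : Per p (st X) := fun i => by
  rw [coeff_st, coeff_st, ← hX (-(i + zp m p))]
  congr 1
  abel

omit hp in
lemma per_add {X Y : AR R m} (hX : Per p X) (hY : Per p Y) : Per p (X + Y) := fun i => by
  simp [hX i, hY i]

lemma per_mul_eq_zero (hpm : p ∣ m) {X W : AR (ZMod p) m} (hX : Per p X) (hW : Per p W) : X * W = 0 :=
  extA fun k => by
    rw [coeffA_mul]
    refine (sum_periodic_zero hpm fun i => ?_).trans (by simp)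
    rw [hX i, show k - (i + zp m p) = (k - i - zp m p) by abel, ← hW (k - i - zp m p), sub_add_cancel]

/-- Frobenius on the cyclic group algebra. -/
lemma coeff_pow_prime (X : AR (ZMod p) m) (k : ZMod m) :
    (X ^ p).coeff k = ∑ i ∈ Finset.univ.filter (fun i => p • i = k), X.coeff i := by
  haveI : CharP (AR (ZMod p) m) p := charP_of_injective_algebraMap'
    (R := ZMod p) (A := AR (ZMod p) m) p
  have hX : X = ∑ i, AddMonoidAlgebra.single i (X.coeff i) := extA fun j => by
    rw [AddMonoidAlgebra.coeff_sum, Finsupp.finsetSum_apply, Finset.sum_eq_single j]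
    · simp [AddMonoidAlgebra.coeff_single]
    · intro b _ hb
      simp [AddMonoidAlgebra.coeff_single, Finsupp.single_apply, hb]
    · simp
  conv_lhs => rw [hX, sum_pow_char p]
  rw [AddMonoidAlgebra.coeff_sum, Finsupp.finsetSum_apply, Finset.sum_filter]
  refine Finset.sum_congr rfl fun i _ => ?_
  rw [AddMonoidAlgebra.single_pow, ZMod.pow_card, AddMonoidAlgebra.coeff_single, Finsupp.single_apply]

lemma coeff_pow_prime_smul (X : AR (ZMod p) m) (i : ZMod m) :
    (X ^ p).coeff (p • i) = ∑ x ∈ fib p i, X.coeff x := coeff_pow_prime X _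

/-- Multipliers fix every basic set meeting the rotations. -/
def SR.Rational (S : SR m) : Prop := ∀ (i : ZMod m) (t : (ZMod m)ˣ), S.rel (r i) (r (t * i))

lemma exists_unit_of_order {i i' : ZMod m} (h : addOrderOf i = addOrderOf i') :
    ∃ t : (ZMod m)ˣ, i' = t * i := by
  obtain ⟨d, hd, u, hu, rfl⟩ := i.eq_unit_mul_divisor
  obtain ⟨d', hd', u', hu', rfl⟩ := i'.eq_unit_mul_divisor
  have key : ∀ {d : ℕ} {u : ZMod m}, d ∣ m → IsUnit u → addOrderOf (u * (d : ZMod m)) = m / d := by
    intro d u hd hu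
    obtain ⟨v, rfl⟩ := hu
    rw [show (v : ZMod m) * (d : ZMod m) = (AddMonoidHom.mulLeft (v : ZMod m)) d from rfl,
      addOrderOf_injective (AddMonoidHom.mulLeft (v : ZMod m))
        (fun a b e => v.isUnit.mul_left_cancel e),
      ZMod.addOrderOf_coe _ (NeZero.ne m), Nat.gcd_eq_right hd]
  rw [key hd hu, key hd' hu'] at h
  have hdd : d = d' := by
    rw [← Nat.div_div_self hd (NeZero.ne m), ← Nat.div_div_self hd' (NeZero.ne m), h]
  subst hdd
  obtain ⟨v, rfl⟩ := hu
  obtain ⟨v', rfl⟩ := hu'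
  exact ⟨v' * v⁻¹, by simp [mul_assoc]⟩

lemma SR.Rational.rel_of_order {S : SR m} (hS : S.Rational) {i i' : ZMod m}
    (h : addOrderOf i = addOrderOf i') : S.rel (r i) (r i') := by
  obtain ⟨t, rfl⟩ := exists_unit_of_order h
  exact hS i t

lemma addOrderOf_smul_zp (hpm : p ∣ m) {x : ZMod m} (hx : p • x = 0) (hx0 : x ≠ 0) : addOrderOf x = p :=
  addOrderOf_eq_prime hx hx0

/-- Key lemma: a union of basic sets with periodic reflection part is trivial. -/
theorem SR.Rational.periodic_empty {S : SR m} (hS : S.Rational) (hm : 2 ≤ m) (hpm : p ∣ m)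
    {L : DihedralGroup m → Prop} (hL : S.Union L) (h1 : ¬ L 1) (hz : ¬ L (r (zp m p)))
    (hY : ∀ i, L (sr (i + zp m p)) ↔ L (sr i)) : ∀ x, ¬ L x := by
  set F := ind (ZMod p) L
  have hF : S.Inv F := S.inv_ind hL
  have hst := S.st_aP hF
  have hb : Per p (bP F) := fun i => by simp [F, coeff_ind, hY i]
  have hYY : bP F * st (bP F) = 0 := per_mul_eq_zero hpm hb (per_st hb)
  have hab : aP (F ^ p) = aP F ^ p ∧ bP (F ^ p) = 0 := by
    rcases hp.out.eq_two_or_odd' with h2 | ⟨n, hn⟩
    · rw [congrArg (fun k => F ^ k) h2, congrArg (fun k => aP F ^ k) h2, pow_two, aP_mul, bP_mul, hst,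
        mul_comm (st (bP F)), hYY, add_zero, pow_two]
      refine ⟨rfl, ?_⟩
      rw [mul_comm (aP F), ← two_mul]
      have : (2 : AR (ZMod p) m) = 0 := by
        have : ((p : ℕ) : AR (ZMod p) m) = 0 := by
          rw [← map_natCast (algebraMap (ZMod p) (AR (ZMod p) m)), ZMod.natCast_self, map_zero]
        rw [congrArg (fun k : ℕ => (k : AR (ZMod p) m)) h2] at this
        simpa using this
      rw [this, zero_mul]
    · obtain ⟨h1', h2'⟩ := pow_odd_prime hn F hst
      refine ⟨h1', ?_⟩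
      rw [h2', hYY, zero_pow (by have := hp.out.one_lt; omega), mul_zero]
  have hzero : ∀ x, x ≠ 1 → (F ^ p).coeff x = 0 := by
    intro x hx
    obtain ⟨i, hi⟩ := S.meets_sr hx
    rw [S.inv_pow hF p _ _ hi, ← coeff_bP, hab.2]
    rfl
  have hper : ∀ i, L (r i) → L (r (i + zp m p)) := by
    intro i hi
    by_cases h0 : p • i = 0
    · exfalso
      by_cases hi0 : i = 0
      · exact h1 (by rw [DihedralGroup.one_def]; rwa [hi0] at hi)
      · exact hz ((hL _ _ (hS.rel_of_order ((addOrderOf_smul_zp hpm h0 hi0).trans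
          (addOrderOf_zp hpm).symm))).1 hi)
    have hne : r (p • i) ≠ (1 : DihedralGroup m) := fun e => by
      rw [DihedralGroup.one_def] at e
      injection e with e'
      exact h0 e'
    have hs := hzero _ hne
    rw [← coeff_aP, hab.1, coeff_pow_prime_smul] at hs
    simp only [coeff_aP, F, coeff_ind, Finset.sum_boole, ZMod.natCast_eq_zero_iff] at hs
    have hmem : i ∈ (fib p i).filter fun x => L (r x) := by simp [fib, hi]
    have hle : (fib p i).card ≤ ((fib p i).filter fun x => L (r x)).card := by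
      rw [card_fib hpm]
      exact Nat.le_of_dvd (Finset.card_pos.2 ⟨i, hmem⟩) hs
    have heq := Finset.eq_of_subset_of_card_le (Finset.filter_subset _ _) hle
    have hin : i + zp m p ∈ fib p i := by
      have := smul_add_zp hpm i 1
      rw [one_nsmul] at this
      exact Finset.mem_filter.2 ⟨Finset.mem_univ _, this⟩
    rw [← heq] at hin
    exact (Finset.mem_filter.1 hin).2
  have hLz : ∀ x, L x → L (r (zp m p) * x) := by
    intro x hx
    cases x with
    | r i => rw [r_mul_r, add_comm]; exact hper i hx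
    | sr i =>
      rw [r_mul_sr, ← hY (i - zp m p), sub_add_cancel]
      exact hx
  rcases S.stab hL (fun e => by
    rw [DihedralGroup.one_def] at e
    injection e with e'
    exact zp_ne_zero hpm e') hLz with h | h
  · exact absurd (h 1) h1
  · exact h

/-- Elements with periodic reflection part are scalar. -/
theorem SR.Rational.periodic_scalar {S : SR m} (hS : S.Rational) (hm : 2 ≤ m) (hpm : p ∣ m)
    {G : DR R m} (hG : S.Inv G) (hY : Per p (bP G)) :
    ∀ x, x ≠ 1 → G.coeff x = G.coeff (r (zp m p)) := by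
  intro x hx
  by_contra hne
  have hU : S.Union (fun x => x ≠ 1 ∧ G.coeff x ≠ G.coeff (r (zp m p))) := fun a b h => by
    simp only [hG a b h]
    refine and_congr_left fun _ => not_congr ⟨fun e => ?_, fun e => ?_⟩
    · subst e; exact S.one b h
    · subst e; exact S.one a (S.equiv.symm h)
  exact hS.periodic_empty hm hpm hU (fun h => h.1 rfl) (fun h => h.2 rfl) (fun i => by
    have h1 : ∀ j : ZMod m, sr j ≠ (1 : DihedralGroup m) := fun j e => by injection e
    have h2 : G.coeff (sr (i + zp m p)) = G.coeff (sr i) := hY i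
    simp [h1, h2]) x ⟨hx, hne⟩

end Cfsg.Agent.P3572
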