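import Cfsg.Agent.P3572.Lift
import Cfsg.Agent.P3572.Even

/-! Primitive S-rings over dihedral groups have two basic sets. -/

set_option autoImplicit false

namespace Cfsg.Agent.P3572

open DihedralGroup
open scoped Classical

variable {m : ℕ} [NeZero m] {R : Type} [CommRing R]

/-- The rational case. -/
theorem rank_two_rational {S : SR m} (hS : S.Rational) (hm : 2 ≤ m) {x y : DihedralGroup m}
    (hx : x ≠ 1) (hy : y ≠ 1) : S.rel x y := by
  have hone : ∃ z : ZMod m, ∀ i : ZMod m, i ≠ 0 → S.rel (r i) (r z) := by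
    by_cases hex : ∃ p, Nat.Prime p ∧ p ∣ m ∧ Odd p
    · obtain ⟨p, hp, hpm, n, hn⟩ := hex
      haveI : Fact p.Prime := ⟨hp⟩
      refine ⟨zp m p, fun i hi => ?_⟩
      have hbig : Big S p := fun k hk => rel_zp hS hm hpm hn hk
      by_contra hne
      exact no_small hS hm hpm hn hbig i ⟨by_contra fun h => hne (hbig i h), hi, hne⟩
    · obtain ⟨k, hk⟩ : ∃ k, m = 2 ^ k := by
        refine ⟨m.primeFactorsList.length, Nat.eq_prime_pow_of_unique_prime_dvd (NeZero.ne m) fun {d} hd hdm => ?_⟩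
        rcases hd.eq_two_or_odd' with h | h
        · exact h
        · exact absurd ⟨d, hd, hdm, h⟩ hex
      rcases k with _ | e
      · rw [pow_zero] at hk
        omega
      · exact ⟨zp m 2, fun i hi => rel_zp_two hS hk hi⟩
  obtain ⟨z, hz⟩ := hone
  have hall : ∀ g, g ≠ 1 → S.rel g (r z) := fun g hg => by
    obtain ⟨i, hi⟩ := S.meets_r hm g
    refine S.equiv.trans hi (hz i fun h => hg ?_)
    exact S.one g (S.equiv.symm (r_eq_one_iff.2 h ▸ hi))
  exact S.equiv.trans (hall x hx) (S.equiv.symm (hall y hy))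

/-- Invariance under multipliers. -/
def Fix (F : DR R m) : Prop := ∀ (t : (ZMod m)ˣ) (i : ZMod m), F.coeff (r (t * i)) = F.coeff (r i)

variable {q : ℕ} [Fact q.Prime]

lemma coeff_pow_mul (S : SR m) {n : ℕ} (hn : q = 2 * n + 1) (t : (ZMod m)ˣ) (ht : (t : ZMod m) = (q : ZMod m))
    {F : DR (ZMod q) m} (hF : S.Inv F) (k : ZMod m) :
    (F ^ q).coeff (r (t * k)) = F.coeff (r k) := by
  rw [← coeff_aP, (pow_odd_prime hn F (S.st_aP hF)).1, coeff_pow_prime]
  rw [Finset.sum_eq_single_of_mem k (by simp [nsmul_eq_mul, ht]) fun b hb hbk => absurd ?_ hbk]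
  · rfl
  · simp only [Finset.mem_filter, Finset.mem_univ, true_and, nsmul_eq_mul, ← ht] at hb
    exact t.isUnit.mul_left_cancel hb

omit [Fact q.Prime] in
lemma exists_prime (t : (ZMod m)ˣ) (B : ℕ) :
    ∃ q n : ℕ, q.Prime ∧ B < q ∧ q = 2 * n + 1 ∧ (t : ZMod m) = (q : ZMod m) := by
  obtain ⟨q, hlt, hq, hqt⟩ := Nat.forall_exists_prime_gt_and_eq_mod t.isUnit (max B 2)
  obtain ⟨n, hn⟩ := hq.odd_of_ne_two (by omega)
  exact ⟨q, n, hq, by omega, hn, hqt.symm⟩

omit [Fact q.Prime] in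
lemma fix_mul (S : SR m) (hm : 2 ≤ m) {F G : DR ℤ m} (hF : S.Inv F) (hG : S.Inv G) (fF : Fix F)
    (fG : Fix G) : Fix (F * G) := by
  intro t i
  obtain ⟨q, n, hq, hlt, hn, hqt⟩ :=
    exists_prime t ((F * G).coeff (r (t * i)) - (F * G).coeff (r i)).natAbs
  haveI : Fact q.Prime := ⟨hq⟩
  have hinv : ∀ {H : DR ℤ m}, S.Inv H → S.Inv (castD (ZMod q) H) := fun {H} hH x y e => by
    rw [coeff_castD, coeff_castD, hH x y e]
  have hfix : ∀ {H : DR ℤ m}, S.Inv H → Fix H → castD (ZMod q) H ^ q = castD (ZMod q) H := by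
    intro H hH fH
    refine S.eq_of_aP hm (S.inv_pow (hinv hH) q) (hinv hH) (extA fun k => ?_)
    have := coeff_pow_mul S hn t hqt (hinv hH) ((t⁻¹ : (ZMod m)ˣ) * k)
    rw [← mul_assoc, Units.mul_inv, one_mul] at this
    rw [coeff_aP, coeff_aP, this, coeff_castD, coeff_castD, fH]
  have hFG : castD (ZMod q) (F * G) ^ q = castD (ZMod q) (F * G) := by
    rw [map_mul, (show Commute _ _ from S.comm (hinv hF) (hinv hG)).mul_pow, hfix hF fF, hfix hG fG]
  have h := coeff_pow_mul S hn t hqt (hinv (S.inv_mul hF hG)) i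
  rw [hFG, coeff_castD, coeff_castD, ← sub_eq_zero, ← Int.cast_sub,
    ZMod.intCast_zmod_eq_zero_iff_dvd] at h
  by_contra hne
  have := Nat.le_of_dvd (Int.natAbs_pos.2 (sub_ne_zero.2 hne)) (Int.natAbs_dvd_natAbs.2 h)
  simp only [Int.natAbs_natCast] at this
  omega

/-- Fusion by multipliers. -/
def ratRel (S : SR m) (x y : DihedralGroup m) : Prop :=
  ∀ F : DR ℤ m, S.Inv F → Fix F → F.coeff x = F.coeff y

omit [Fact q.Prime] in
lemma ratRel_of_rel {S : SR m} {x y : DihedralGroup m} (h : S.rel x y) : ratRel S x y :=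
  fun _ hF _ => hF x y h

/-- The rational fusion. -/
noncomputable def ratSR (S : SR m) (hm : 2 ≤ m) : SR m where
  rel := ratRel S
  equiv := ⟨fun _ _ _ _ => rfl, fun h F hF fF => (h F hF fF).symm,
    fun h h' F hF fF => (h F hF fF).trans (h' F hF fF)⟩
  one x h := by
    have := h 1 S.inv_one fun t i => by
      rw [MonoidAlgebra.one_def, MonoidAlgebra.coeff_single, Finsupp.single_apply, Finsupp.single_apply]
      refine if_congr ⟨fun e => ?_, fun e => ?_⟩ rfl rfl
      · exact (r_eq_one_iff.2 (t.isUnit.mul_right_eq_zero.1 (r_eq_one_iff.1 e.symm))).symm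
      · exact (r_eq_one_iff.2 (by rw [r_eq_one_iff.1 e.symm, mul_zero])).symm
    rw [MonoidAlgebra.one_def, MonoidAlgebra.coeff_single, Finsupp.single_apply, Finsupp.single_apply,
      if_pos rfl] at this
    by_contra hne
    rw [if_neg (Ne.symm hne)] at this
    exact one_ne_zero this
  inv x y h := fun F hF fF => by rw [S.coeff_inv hF, S.coeff_inv hF]; exact h F hF fF
  mul F G hF hG x y h := by
    have hFi : S.Inv F := fun a b e => hF a b (ratRel_of_rel e)
    have hGi : S.Inv G := fun a b e => hG a b (ratRel_of_rel e)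
    exact h _ (S.inv_mul hFi hGi) (fix_mul S hm hFi hGi
      (fun t i => hF _ _ fun H _ fH => fH t i) (fun t i => hG _ _ fun H _ fH => fH t i))
  prim K hK := S.prim K fun x y e => hK x y (ratRel_of_rel e)

omit [Fact q.Prime] in
lemma ratSR_rational (S : SR m) (hm : 2 ≤ m) : (ratSR S hm).Rational :=
  fun i t _ _ fF => (fF t i).symm

/-- Total augmentation. -/
noncomputable def augD : DR R m →+* R where
  toFun F := augA (aP F) + augA (bP F)
  map_one' := by simp [aP_one, bP_one]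
  map_mul' F G := by simp [aP_mul, bP_mul]; ring
  map_zero' := by simp
  map_add' F G := by simp; ring

/-- The members of a basic set. -/
noncomputable def clsSet (S : SR m) (v : DihedralGroup m) : Finset (DihedralGroup m) :=
  Finset.univ.filter (fun g => S.rel v g)

/-- The rotations in a basic set. -/
noncomputable def rotSet (S : SR m) (v : DihedralGroup m) : Finset (ZMod m) :=
  Finset.univ.filter (fun i => S.rel v (r i))

/-- The image of a basic set under a multiplier. -/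
noncomputable def imgSet (S : SR m) (v : DihedralGroup m) (t : (ZMod m)ˣ) : Finset (DihedralGroup m) :=
  Finset.univ.filter (fun g => ∃ k, S.rel g (r k) ∧ S.rel v (r ((t⁻¹ : (ZMod m)ˣ) * k)))

omit [Fact q.Prime] in
lemma card_dihedral : Fintype.card (DihedralGroup m) = 2 * m := DihedralGroup.card

omit [Fact q.Prime] in
lemma imgSet_spec (S : SR m) (hm : 2 ≤ m) (v : DihedralGroup m) (t : (ZMod m)ˣ) :
    (imgSet S v t).card = (clsSet S v).card ∧
      ∀ k, r k ∈ imgSet S v t ↔ S.rel v (r ((t⁻¹ : (ZMod m)ˣ) * k)) := by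
  obtain ⟨q, n, hq, hlt, hn, hqt⟩ := exists_prime t (2 * m)
  haveI : Fact q.Prime := ⟨hq⟩
  set T := ind (ZMod q) (fun g => S.rel v g)
  have hT : S.Inv T := S.inv_ind (S.union_class v)
  have hco : ∀ g k, S.rel g (r k) →
      (T ^ q).coeff g = if S.rel v (r ((t⁻¹ : (ZMod m)ˣ) * k)) then 1 else 0 := by
    intro g k hgk
    have := coeff_pow_mul S hn t hqt hT ((t⁻¹ : (ZMod m)ˣ) * k)
    rw [← mul_assoc, Units.mul_inv, one_mul] at this
    rw [S.inv_pow hT q g _ hgk, this]
    rfl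
  have h01 : (0 : ZMod q) ≠ 1 := zero_ne_one
  have hiff : ∀ g k, S.rel g (r k) →
      (g ∈ imgSet S v t ↔ S.rel v (r ((t⁻¹ : (ZMod m)ˣ) * k))) := by
    intro g k hgk
    refine ⟨fun hg => ?_, fun h => Finset.mem_filter.2 ⟨Finset.mem_univ _, k, hgk, h⟩⟩
    obtain ⟨k', h1, h2⟩ := (Finset.mem_filter.1 hg).2
    by_contra hne
    have e1 := hco g k hgk
    rw [hco g k' h1, if_pos h2, if_neg hne] at e1
    exact h01 e1.symm
  refine ⟨?_, fun k => hiff _ k (S.equiv.refl _)⟩
  have hTq : T ^ q = ind (ZMod q) (fun g => g ∈ imgSet S v t) := extD fun g => by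
    obtain ⟨k, hk⟩ := S.meets_r hm g
    rw [hco g k hk, coeff_ind]
    by_cases h : S.rel v (r ((t⁻¹ : (ZMod m)ˣ) * k))
    · rw [if_pos h, if_pos ((hiff g k hk).2 h)]
    · rw [if_neg h, if_neg (mt (hiff g k hk).1 h)]
  have haug : ∀ s : Finset (DihedralGroup m),
      augD (ind (ZMod q) (fun g => g ∈ s)) = (s.card : ZMod q) := by
    intro s
    show augA (R := ZMod q) (aP (ind (ZMod q) (fun g => g ∈ s))) +
      augA (R := ZMod q) (bP (ind (ZMod q) (fun g => g ∈ s))) = _
    rw [augA_apply, augA_apply]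
    simp only [coeff_aP, coeff_bP]
    rw [← sum_dihedral (fun g => (ind (ZMod q) (fun g => g ∈ s)).coeff g)]
    simp only [coeff_ind]
    refine (Finset.sum_subset (Finset.subset_univ s) fun x _ hx => ?_).symm.trans ?_
    · simp [hx]
    · refine (Finset.sum_congr rfl fun x hx => show _ = (1 : ZMod q) from ?_).trans ?_
      · simp [hx]
      · simp
  have hTs : T = ind (ZMod q) (fun g => g ∈ clsSet S v) := extD fun g => by
    simp [T, coeff_ind, clsSet]
  have e : (((imgSet S v t).card : ℕ) : ZMod q) = ((clsSet S v).card : ℕ) := by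
    rw [← haug, ← haug, ← hTq, ← hTs, map_pow, ZMod.pow_card]
  rw [ZMod.natCast_eq_natCast_iff'] at e
  have b1 : (imgSet S v t).card ≤ 2 * m := (Finset.card_le_univ _).trans_eq card_dihedral
  have b2 : (clsSet S v).card ≤ 2 * m := (Finset.card_le_univ _).trans_eq card_dihedral
  rwa [Nat.mod_eq_of_lt (by omega), Nat.mod_eq_of_lt (by omega)] at e

omit [Fact q.Prime] in
lemma clsSet_subset_imgSet (S : SR m) {v w : DihedralGroup m} {t : (ZMod m)ˣ} {k : ZMod m}
    (hw : S.rel w (r k)) (hv : S.rel v (r ((t⁻¹ : (ZMod m)ˣ) * k))) : clsSet S w ⊆ imgSet S v t := by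
  intro g hg
  exact Finset.mem_filter.2
    ⟨Finset.mem_univ _, k, S.equiv.trans (S.equiv.symm (Finset.mem_filter.1 hg).2) hw, hv⟩

omit [Fact q.Prime] in
lemma clsSet_eq_imgSet (S : SR m) (hm : 2 ≤ m) {v w : DihedralGroup m} {t : (ZMod m)ˣ} {i : ZMod m}
    (hv : S.rel v (r i)) (hw : S.rel w (r (t * i))) : clsSet S w = imgSet S v t := by
  have h1 : clsSet S w ⊆ imgSet S v t := clsSet_subset_imgSet S hw (by
    rwa [← mul_assoc, Units.inv_mul, one_mul])
  have h2 : clsSet S v ⊆ imgSet S w t⁻¹ := clsSet_subset_imgSet S hv (by rwa [inv_inv])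
  refine Finset.eq_of_subset_of_card_le h1 ?_
  have := Finset.card_le_card h2
  rw [(imgSet_spec S hm w t⁻¹).1] at this
  rw [(imgSet_spec S hm v t).1]
  exact this

omit [Fact q.Prime] in
/-- Primitive S-rings over dihedral groups have two basic sets. -/
theorem rank_two (S : SR m) (hm : 2 ≤ m) {x y : DihedralGroup m} (hx : x ≠ 1) (hy : y ≠ 1) :
    S.rel x y := by
  have key : ∀ {v w : DihedralGroup m} {t : (ZMod m)ˣ} {i : ZMod m},
      S.rel v (r i) → S.rel w (r (t * i)) →
      ∀ k, (S.rel w (r k) ↔ S.rel v (r ((t⁻¹ : (ZMod m)ˣ) * k))) := by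
    intro v w t i hv hw k
    rw [← (imgSet_spec S hm v t).2 k, ← clsSet_eq_imgSet S hm hv hw]
    simp [clsSet]
  set M : DihedralGroup m → Prop := fun g =>
    ∃ (t : (ZMod m)ˣ) (i : ZMod m), S.rel x (r i) ∧ S.rel g (r (t * i))
  have hM : S.Union M := fun a b h =>
    ⟨fun ⟨t, i, h1, h2⟩ => ⟨t, i, h1, S.equiv.trans (S.equiv.symm h) h2⟩,
      fun ⟨t, i, h1, h2⟩ => ⟨t, i, h1, S.equiv.trans h h2⟩⟩
  have hstep : ∀ (s : (ZMod m)ˣ) (k : ZMod m), M (r k) → M (r (s * k)) := by
    rintro s k ⟨t, i, h1, h2⟩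
    have h3 := (key h1 h2 k).1 (S.equiv.refl _)
    refine ⟨s * t, (t⁻¹ : (ZMod m)ˣ) * k, h3, ?_⟩
    rw [Units.val_mul, mul_assoc, ← mul_assoc (t : ZMod m), Units.mul_inv, one_mul]
    exact S.equiv.refl _
  have hfix : Fix (ind ℤ M) := fun t k => by
    simp only [coeff_ind]
    by_cases h : M (r k)
    · rw [if_pos h, if_pos (hstep t k h)]
    · rw [if_neg h, if_neg fun h' => h ?_]
      have := hstep t⁻¹ _ h'
      rwa [← mul_assoc, Units.inv_mul, one_mul] at this
  have hxM : M x := by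
    obtain ⟨i, hi⟩ := S.meets_r hm x
    exact ⟨1, i, hi, by rwa [Units.val_one, one_mul]⟩
  have hallM : ∀ g, g ≠ 1 → M g := by
    intro g hg
    have := rank_two_rational (ratSR_rational S hm) hm hx hg (ind ℤ M) (S.inv_ind hM) hfix
    rw [coeff_ind, coeff_ind, if_pos hxM] at this
    by_contra h
    rw [if_neg h] at this
    exact one_ne_zero this
  set c := (clsSet S x).card
  set a := (rotSet S x).card
  have hcard : ∀ g, g ≠ 1 → (clsSet S g).card = c ∧ (rotSet S g).card = a := by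
    intro g hg
    obtain ⟨t, i, h1, h2⟩ := hallM g hg
    refine ⟨by rw [clsSet_eq_imgSet S hm h1 h2, (imgSet_spec S hm x t).1], ?_⟩
    refine (Finset.card_bij (fun k _ => (t : ZMod m) * k) (fun k hk => ?_) (fun a _ b _ e => ?_)
      (fun b hb => ?_)).symm
    · simp only [rotSet, Finset.mem_filter, Finset.mem_univ, true_and] at hk ⊢
      rw [key h1 h2]
      rwa [← mul_assoc, Units.inv_mul, one_mul]
    · exact t.isUnit.mul_left_cancel e
    · refine ⟨(t⁻¹ : (ZMod m)ˣ) * b, ?_, by rw [← mul_assoc, Units.mul_inv, one_mul]⟩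
      simp only [rotSet, Finset.mem_filter, Finset.mem_univ, true_and] at hb ⊢
      exact (key h1 h2 b).1 hb
  set Q := (Finset.univ.erase (1 : DihedralGroup m)).image (Quotient.mk S.setoid)
  have hfib : ∀ q ∈ Q, ∃ g, g ≠ 1 ∧ Quotient.mk S.setoid g = q := fun q hq => by
    obtain ⟨g, hg, rfl⟩ := Finset.mem_image.1 hq
    exact ⟨g, (Finset.mem_erase.1 hg).1, rfl⟩
  have hne1 : ∀ {g h : DihedralGroup m}, g ≠ 1 → S.rel g h → h ≠ 1 := fun {g h} hg e h1 =>
    hg (S.one g (S.equiv.symm (h1 ▸ e)))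
  have hN1 : 2 * m - 1 = Q.card * c := by
    have e := Finset.card_eq_sum_card_image (Quotient.mk S.setoid)
      (Finset.univ.erase (1 : DihedralGroup m))
    rw [Finset.card_erase_of_mem (Finset.mem_univ _), Finset.card_univ, card_dihedral] at e
    rw [e, ← smul_eq_mul, ← Finset.sum_const]
    refine Finset.sum_congr rfl fun q hq => ?_
    obtain ⟨g, hg, rfl⟩ := hfib q hq
    rw [← (hcard g hg).1]
    refine congrArg Finset.card (Finset.ext fun h => ?_)
    simp only [clsSet, Finset.mem_filter, Finset.mem_erase, Finset.mem_univ, and_true, true_and]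
    exact ⟨fun e => S.equiv.symm (Quotient.exact e.2), fun e =>
      ⟨hne1 hg e, Quotient.sound (show S.rel h g from S.equiv.symm e)⟩⟩
  have hN2 : m - 1 = Q.card * a := by
    have hmap : ∀ i ∈ Finset.univ.erase (0 : ZMod m), Quotient.mk S.setoid (r i) ∈ Q := fun i hi =>
      Finset.mem_image_of_mem _ (Finset.mem_erase.2
        ⟨fun e => (Finset.mem_erase.1 hi).1 (r_eq_one_iff.1 e), Finset.mem_univ _⟩)
    have e := Finset.card_eq_sum_card_fiberwise hmap
    rw [Finset.card_erase_of_mem (Finset.mem_univ _), Finset.card_univ, ZMod.card] at e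
    rw [e, ← smul_eq_mul, ← Finset.sum_const]
    refine Finset.sum_congr rfl fun q hq => ?_
    obtain ⟨g, hg, rfl⟩ := hfib q hq
    rw [← (hcard g hg).2]
    refine congrArg Finset.card (Finset.ext fun i => ?_)
    simp only [rotSet, Finset.mem_filter, Finset.mem_erase, Finset.mem_univ, and_true, true_and]
    exact ⟨fun e => S.equiv.symm (Quotient.exact e.2), fun e =>
      ⟨fun h0 => hne1 hg e (r_eq_one_iff.2 h0), Quotient.sound (show S.rel (r i) g from S.equiv.symm e)⟩⟩
  have hQ : Q.card = 1 := by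
    have h1 : Q.card ∣ 2 * m - 1 := ⟨c, hN1⟩
    have h2 : Q.card ∣ 2 * (m - 1) := dvd_mul_of_dvd_right ⟨a, hN2⟩ _
    have h3 := Nat.dvd_sub h1 h2
    rwa [show 2 * m - 1 - 2 * (m - 1) = 1 by omega, Nat.dvd_one] at h3
  obtain ⟨q0, hq0⟩ := Finset.card_eq_one.1 hQ
  have hm0 : ∀ g, g ≠ 1 → Quotient.mk S.setoid g = q0 := fun g hg =>
    Finset.mem_singleton.1 (hq0 ▸ Finset.mem_image_of_mem _ (Finset.mem_erase.2 ⟨hg, Finset.mem_univ _⟩))
  exact Quotient.exact ((hm0 x hx).trans (hm0 y hy).symm)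

end Cfsg.Agent.P3572
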