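import Cfsg.Agent.P3572.Prime

/-! Unions of basic sets with periodic rotation part. -/

set_option autoImplicit false

namespace Cfsg.Agent.P3572

open DihedralGroup
open scoped Classical

variable {m : ℕ} [NeZero m] {p : ℕ} [hp : Fact p.Prime] {R : Type} [CommRing R]

/-- Augmentation. -/
noncomputable def augA : AR R m →+* R where
  toFun X := ∑ i, X.coeff i
  map_one' := by simp [AddMonoidAlgebra.one_def, AddMonoidAlgebra.coeff_single, Finsupp.single_apply]
  map_mul' X Y := by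
    simp only [coeffA_mul]
    rw [Finset.sum_comm, Finset.sum_mul_sum]
    refine Finset.sum_congr rfl fun i _ => ?_
    rw [← Equiv.sum_comp (Equiv.addRight i)]
    exact Finset.sum_congr rfl fun j _ => by simp
  map_zero' := by simp
  map_add' X Y := by simp [Finset.sum_add_distrib]

lemma augA_apply (X : AR R m) : augA X = ∑ i, X.coeff i := rfl

@[simp] lemma augA_st (X : AR R m) : augA (st X) = augA X := by
  simp only [augA_apply, coeff_st]
  exact Equiv.sum_comp (Equiv.neg (ZMod m)) (fun i => X.coeff i)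

/-- The sum of all rotations. -/
noncomputable def allA (R : Type) [CommRing R] (m : ℕ) [NeZero m] : AR R m := ofA fun _ => 1

/-- The sum of all group elements. -/
noncomputable def allD (R : Type) [CommRing R] (m : ℕ) [NeZero m] : DR R m := ofD fun _ => 1

lemma coeff_intCast_mul (c : ℤ) (X : AR ℤ m) (i : ZMod m) :
    ((c : AR ℤ m) * X).coeff i = c * X.coeff i := by
  rw [← zsmul_eq_mul, AddMonoidAlgebra.coeff_smul_apply, smul_eq_mul]

lemma mul_allA (X : AR ℤ m) : X * allA ℤ m = ((augA X : ℤ) : AR ℤ m) * allA ℤ m := extA fun k => by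
  rw [coeffA_mul, coeff_intCast_mul]
  simp [allA, augA_apply]

lemma augA_allA : augA (allA ℤ m) = (m : ℤ) := by
  simp [augA_apply, allA]

lemma coeff_one_zero' : (1 : AR R m).coeff 0 = 1 := AddMonoidAlgebra.coeff_one_zero

lemma sq_coeff_zero {W : AR ℤ m} (hW : st W = W) : (W * W).coeff 0 = ∑ i, W.coeff i * W.coeff i := by
  rw [coeffA_mul]
  refine Finset.sum_congr rfl fun i _ => ?_
  rw [zero_sub, ← coeff_st, hW]

/-- Numerical data of the square of a union with periodic rotation part. -/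
structure SqData (S : SR m) (B : DihedralGroup m → Prop) where
  a : ℤ
  b : ℤ
  sq : ∀ g, (ind ℤ B * ind ℤ B).coeff g = (if g = 1 then a + b else b)
  hb : b = (ind ℤ B * ind ℤ B).coeff (r (zp m p))

variable {S : SR m}

/-- The square is scalar. -/
noncomputable def sqData (hS : S.Rational) (hm : 2 ≤ m) (hpm : p ∣ m) {B : DihedralGroup m → Prop}
    (hB : S.Union B) (hX : ∀ i, B (r (i + zp m p)) ↔ B (r i)) : SqData (p := p) S B where
  a := (ind ℤ B * ind ℤ B).coeff 1 - (ind ℤ B * ind ℤ B).coeff (r (zp m p))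
  b := (ind ℤ B * ind ℤ B).coeff (r (zp m p))
  hb := rfl
  sq g := by
    have hF := S.inv_ind (R := ℤ) hB
    have hper : Per p (aP (ind ℤ B)) := fun i => by simp [coeff_ind, hX i]
    have hbP : Per p (bP (ind ℤ B * ind ℤ B)) := by
      rw [bP_mul, S.st_aP hF, mul_comm (bP (ind ℤ B))]
      exact per_add (per_mul hper _) (per_mul hper _)
    split_ifs with h
    · subst h; ring
    · exact hS.periodic_scalar hm hpm (S.inv_mul hF hF) hbP g h

lemma r_eq_one_iff {i : ZMod m} : r i = (1 : DihedralGroup m) ↔ i = 0 :=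
  ⟨fun h => by rw [DihedralGroup.one_def] at h; injection h, fun h => by rw [h]; rfl⟩

lemma SqData.aP_eq {B : DihedralGroup m → Prop} (D : SqData (p := p) S B) :
    aP (ind ℤ B * ind ℤ B) = (D.a : AR ℤ m) + (D.b : AR ℤ m) * allA ℤ m := extA fun i => by
  rw [coeff_aP, D.sq, ← mul_one (D.a : AR ℤ m), AddMonoidAlgebra.coeff_add, Finsupp.add_apply,
    coeff_intCast_mul, coeff_intCast_mul, AddMonoidAlgebra.one_def, AddMonoidAlgebra.coeff_single,
    Finsupp.single_apply]
  by_cases h : i = 0 <;> simp [h, r_eq_one_iff, allA, eq_comm]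

lemma SqData.bP_eq {B : DihedralGroup m → Prop} (D : SqData (p := p) S B) :
    bP (ind ℤ B * ind ℤ B) = (D.b : AR ℤ m) * allA ℤ m := extA fun i => by
  rw [coeff_bP, D.sq, coeff_intCast_mul, if_neg (by intro h; injection h)]
  simp [allA]

/-- The equations satisfied by the two coefficient parts. -/
lemma SqData.equations (hS : S.Rational) {B : DihedralGroup m → Prop} (hB : S.Union B)
    (D : SqData (p := p) S B) (x y : ℤ) (hx : x = augA (aP (ind ℤ B))) (hy : y = augA (bP (ind ℤ B))) :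
    D.a + D.b = x + y ∧ (x - y) ^ 2 = D.a ∧ (x + y) ^ 2 = D.a + 2 * (m : ℤ) * D.b ∧
      ((m : AR ℤ m) * aP (ind ℤ B) - (x : AR ℤ m) * allA ℤ m) ^ 3 =
        ((D.a * (m : ℤ) ^ 2 : ℤ) : AR ℤ m) * ((m : AR ℤ m) * aP (ind ℤ B) - (x : AR ℤ m) * allA ℤ m) := by
  subst hx hy
  set F := ind ℤ B
  set X := aP F
  set Y := bP F
  set x := augA X with hx
  set y := augA Y with hy
  have hF : S.Inv F := S.inv_ind hB
  have ha := D.aP_eq
  have hb := D.bP_eq
  rw [aP_mul] at ha
  rw [bP_mul, S.st_aP hF] at hb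
  have h1 := congrArg augA ha
  have h2 := congrArg augA hb
  simp only [map_add, map_mul, augA_st, augA_allA, map_intCast, Int.cast_id, ← hx, ← hy] at h1 h2
  have h0 : D.a + D.b = x + y := by
    have e := D.sq 1
    rw [if_pos rfl] at e
    rw [← e, coeffD_mul, hx, hy, augA_apply, augA_apply]
    simp only [X, Y, coeff_aP, coeff_bP, mul_one]
    rw [← sum_dihedral (fun g => F.coeff g)]
    refine Finset.sum_congr rfl fun g _ => ?_
    rw [S.coeff_inv hF]
    simp only [F, coeff_ind]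
    split_ifs <;> simp
  have hsq : (x + y) ^ 2 = D.a + 2 * (m : ℤ) * D.b := by linear_combination h1 + h2
  have hd : (x - y) ^ 2 = D.a := by linear_combination h1 - h2
  refine ⟨h0, hd, hsq, ?_⟩
  set A := allA ℤ m
  set K := (m : AR ℤ m) * X - (x : AR ℤ m) * A
  have hXA : X * A = (x : AR ℤ m) * A := by rw [mul_allA, hx]
  have hAA : A * A = (m : AR ℤ m) * A := by rw [mul_allA, augA_allA]; push_cast; rfl
  have hYA : st Y * A = (y : AR ℤ m) * A := by rw [mul_allA, augA_st, hy]
  have hKA : K * A = 0 := by linear_combination (m : AR ℤ m) * hXA - (x : AR ℤ m) * hAA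
  have hX3 : 2 * X ^ 3 = 2 * (D.a : AR ℤ m) * X
      + ((2 * D.b * x - D.b * y : ℤ) : AR ℤ m) * A := by
    push_cast
    linear_combination (2 * X) * ha + 2 * (D.b : AR ℤ m) * hXA - st Y * hb - (D.b : AR ℤ m) * hYA
  set c : ℤ := (m : ℤ) ^ 3 * (2 * D.b * x - D.b * y) - 2 * (m : ℤ) ^ 2 * x ^ 3 + 2 * D.a * (m : ℤ) ^ 2 * x
  have hK3 : 2 * K ^ 3 - 2 * ((D.a * (m : ℤ) ^ 2 : ℤ) : AR ℤ m) * K = (c : AR ℤ m) * A := by
    simp only [c, K]
    push_cast at hX3 ⊢
    linear_combination (m : AR ℤ m) ^ 3 * hX3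
      + (-6 * (m : AR ℤ m) ^ 2 * (x : AR ℤ m) * (X + (x : AR ℤ m))
        + 6 * (m : AR ℤ m) * (x : AR ℤ m) ^ 2 * A) * hXA
      + (6 * (m : AR ℤ m) * (x : AR ℤ m) ^ 3 - 2 * (x : AR ℤ m) ^ 3 * (A + (m : AR ℤ m))) * hAA
  have hc : c = 0 := by
    have e : ((c : AR ℤ m) * A) * A = 0 := by
      rw [← hK3]; linear_combination (2 * K ^ 2 - 2 * ((D.a * (m : ℤ) ^ 2 : ℤ) : AR ℤ m)) * hKA
    rw [mul_assoc, hAA, ← mul_assoc, ← Int.cast_natCast, ← Int.cast_mul] at e
    have := congrArg (fun W => W.coeff 0) e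
    simp only [coeff_intCast_mul, A, allA, coeff_ofA, mul_one, AddMonoidAlgebra.coeff_zero,
      Finsupp.zero_apply] at this
    exact (mul_eq_zero.1 this).resolve_right (by exact_mod_cast NeZero.ne m)
  rw [hc, Int.cast_zero, zero_mul, sub_eq_zero] at hK3
  refine extA fun i => ?_
  rw [mul_assoc (2 : AR ℤ m)] at hK3
  have e := congrArg (fun W : AR ℤ m => W.coeff i) hK3
  simp only [show (2 : AR ℤ m) = ((2 : ℤ) : AR ℤ m) by norm_num,
    coeff_intCast_mul] at e
  rw [coeff_intCast_mul]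
  linarith

/-- The bound on the rotation part. -/
lemma rotation_bound (hpm : p ∣ m) {X : AR ℤ m} (hst : st X = X) (hper : Per p X)
    (hbool : ∀ i, X.coeff i * X.coeff i = X.coeff i) {a : ℤ} (ha : 0 ≤ a)
    (hK : ((m : AR ℤ m) * X - ((augA X : ℤ) : AR ℤ m) * allA ℤ m) ^ 3 = ((a * (m : ℤ) ^ 2 : ℤ) : AR ℤ m) *
      ((m : AR ℤ m) * X - ((augA X : ℤ) : AR ℤ m) * allA ℤ m)) :
    augA X * ((m : ℤ) - augA X) ≤ a * (((m / p : ℕ) : ℤ) - 1) := by
  set x := augA X with hx
  set A := allA ℤ m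
  set q := m / p
  set P : AR ℤ m := ofA fun i => if p • i = 0 then 1 else 0
  set F' := (q : AR ℤ m) * P - A
  set K := (m : AR ℤ m) * X - (x : AR ℤ m) * A
  set W := ((a * m : ℤ) : AR ℤ m) * F' - K ^ 2
  have hqp : (q : AR ℤ m) * (p : AR ℤ m) = (m : AR ℤ m) := by
    rw [← Nat.cast_mul, Nat.div_mul_cancel hpm]
  have hPV : ∀ {V : AR ℤ m}, Per p V → P * V = (p : AR ℤ m) * V := fun {V} hV => extA fun k => by
    rw [coeffA_mul, ← Int.cast_natCast, coeff_intCast_mul]
    have hsum : ∑ i, P.coeff i * V.coeff (k - i) = ∑ i ∈ fib p (0 : ZMod m), V.coeff (k - i) := by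
      simp [P, fib, Finset.sum_filter]
    rw [hsum, sum_fib hpm (g := fun i => V.coeff (k - i)) (fun i => by
      rw [show k - (i + zp m p) = (k - i - zp m p) by abel, ← hV (k - i - zp m p), sub_add_cancel]) 0,
      sub_zero, nsmul_eq_mul]
  have hPper : Per p P := fun i => by
    simp only [P, coeff_ofA, nsmul_add, p_smul_zp hpm, add_zero]
  have hAper : Per p A := fun i => rfl
  have hPA : P * A = (p : AR ℤ m) * A := hPV hAper
  have hPX : P * X = (p : AR ℤ m) * X := hPV hper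
  have hPP : P * P = (p : AR ℤ m) * P := hPV hPper
  have hAA : A * A = (m : AR ℤ m) * A := by rw [mul_allA, augA_allA]; push_cast; rfl
  have hXA : X * A = (x : AR ℤ m) * A := mul_allA X
  have hFF : F' * F' = (m : AR ℤ m) * F' := by
    simp only [F']
    linear_combination (q : AR ℤ m) ^ 2 * hPP - 2 * (q : AR ℤ m) * hPA + hAA
      + ((q : AR ℤ m) * P - 2 * A) * hqp
  have hFK : F' * K = (m : AR ℤ m) * K := by
    simp only [F', K]
    linear_combination (q : AR ℤ m) * (m : AR ℤ m) * hPX - (q : AR ℤ m) * (x : AR ℤ m) * hPA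
      - (m : AR ℤ m) * hXA + (x : AR ℤ m) * hAA
      + ((m : AR ℤ m) * X - (x : AR ℤ m) * A) * hqp
  have hWW : W * W = ((a * (m : ℤ) ^ 2 : ℤ) : AR ℤ m) * W := by
    simp only [W]
    push_cast at hK ⊢
    linear_combination (a : AR ℤ m) ^ 2 * (m : AR ℤ m) ^ 2 * hFF
      - 2 * (a : AR ℤ m) * (m : AR ℤ m) * K * hFK + K * hK
  have hstW : st W = W := by
    have hP : st P = P := extA fun i => by simp [P, nsmul_eq_mul]
    have hA : st A = A := rfl
    simp only [W, F', K, map_sub, map_mul, map_pow, map_intCast, map_natCast, hst, hP, hA]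
  have h0 : (W * W).coeff 0 = a * (m : ℤ) ^ 2 * W.coeff 0 := by rw [hWW, coeff_intCast_mul]
  rw [sq_coeff_zero hstW] at h0
  have hW0 : 0 ≤ W.coeff 0 := by
    rcases ha.eq_or_lt with rfl | hpos
    · rw [zero_mul, zero_mul] at h0
      exact le_of_eq ((mul_self_eq_zero.1 ((Finset.sum_eq_zero_iff_of_nonneg
        (fun i _ => mul_self_nonneg _)).1 h0 0 (Finset.mem_univ 0))).symm)
    · by_contra hneg
      have : (0 : ℤ) ≤ ∑ i, W.coeff i * W.coeff i := Finset.sum_nonneg fun i _ => mul_self_nonneg _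
      have hm0 : (0 : ℤ) < (m : ℤ) ^ 2 := pow_pos (by exact_mod_cast NeZero.pos m) 2
      nlinarith [mul_pos hpos hm0]
  have hK2 : (K ^ 2).coeff 0 = (m : ℤ) * (x * (m : ℤ) - x * x) := by
    have hKst : st K = K := by
      simp only [K, map_sub, map_mul, map_intCast, map_natCast, hst]
      rfl
    have hKc : ∀ i, K.coeff i = (m : ℤ) * X.coeff i - x := fun i => by
      simp only [K, show (m : AR ℤ m) = (((m : ℕ) : ℤ) : AR ℤ m) from (Int.cast_natCast m).symm,
        AddMonoidAlgebra.coeff_sub, Finsupp.sub_apply, coeff_intCast_mul, A, allA, coeff_ofA, mul_one]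
    rw [pow_two, sq_coeff_zero hKst]
    simp only [hKc, sub_mul, mul_sub, Finset.sum_sub_distrib]
    have e1 : ∑ i, (m : ℤ) * X.coeff i * ((m : ℤ) * X.coeff i) = (m : ℤ) * (m : ℤ) * x := by
      rw [hx, augA_apply, Finset.mul_sum]
      exact Finset.sum_congr rfl fun i _ => by linear_combination (m : ℤ) * (m : ℤ) * hbool i
    rw [e1, ← Finset.mul_sum, ← Finset.sum_mul, ← Finset.mul_sum, ← Finset.mul_sum, ← augA_apply, ← hx]
    simp [ZMod.card]
    ring
  have hF0 : F'.coeff 0 = (q : ℤ) - 1 := by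
    simp only [F', show (q : AR ℤ m) = (((q : ℕ) : ℤ) : AR ℤ m) from (Int.cast_natCast q).symm,
      AddMonoidAlgebra.coeff_sub, Finsupp.sub_apply, coeff_intCast_mul, P, A, allA, coeff_ofA, smul_zero,
      if_true, mul_one]
  simp only [W, AddMonoidAlgebra.coeff_sub, Finsupp.sub_apply, coeff_intCast_mul, hK2, hF0] at hW0
  have hm0 : (0 : ℤ) < (m : ℤ) := by exact_mod_cast NeZero.pos m
  nlinarith

/-- No such union exists for odd primes. -/
theorem SR.Rational.periodic_rot_false (hS : S.Rational) (hm : 2 ≤ m) (hpm : p ∣ m) {n : ℕ}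
    (hn : p = 2 * n + 1) {B : DihedralGroup m → Prop} (hB : S.Union B) (h1 : ¬ B 1)
    (hne : ∃ g, B g) (hX : ∀ i, B (r (i + zp m p)) ↔ B (r i)) : False := by
  let D := sqData (p := p) hS hm hpm hB hX
  obtain ⟨h0, hd, hsq, hK⟩ := D.equations hS hB _ _ rfl rfl
  set F := ind ℤ B
  set x := augA (aP F) with hx
  set y := augA (bP F)
  have hbool : ∀ i, (aP F).coeff i * (aP F).coeff i = (aP F).coeff i := fun i => by
    simp [F, coeff_ind]
  have hbd := rotation_bound hpm (S.st_aP (S.inv_ind hB)) (fun i => by simp [F, coeff_ind, hX i])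
    hbool (a := D.a) (by rw [← hd]; exact sq_nonneg _) hK
  rw [← hx] at hbd
  have hxc : x = ((Finset.univ.filter fun i => B (r i)).card : ℤ) := by
    simp [hx, augA_apply, F, coeff_ind]
  have hxpos : 0 < x := by
    obtain ⟨g, hg⟩ := hne
    obtain ⟨i, hi⟩ := S.meets_r hm g
    rw [hxc]
    exact_mod_cast Finset.card_pos.2 ⟨i, by simp [← hB _ _ hi, hg]⟩
  have hxlt : x < (m : ℤ) := by
    rw [hxc]
    exact_mod_cast (Finset.card_lt_card (Finset.filter_ssubset.2 ⟨0, Finset.mem_univ _, by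
      rw [← DihedralGroup.one_def]; exact h1⟩)).trans_eq (by rw [Finset.card_univ, ZMod.card])
  -- `p` divides `a`
  have hpa : (p : ℤ) ∣ D.a := by
    set Fp := ind (ZMod p) B
    have hFp : S.Inv Fp := S.inv_ind hB
    have hper : Per p (aP Fp) := fun i => by simp [Fp, coeff_ind, hX i]
    have hpow : Fp ^ p = 0 := by
      refine S.eq_of_aP hm (S.inv_pow hFp p) S.inv_zero ?_
      rw [(pow_odd_prime hn Fp (S.st_aP hFp)).1, map_zero]
      exact pow_eq_zero_of_le hp.out.two_le (by rw [pow_two, per_mul_eq_zero hpm hper hper])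
    have hsq2 : Fp * Fp = (D.a : ZMod p) • (1 : DR (ZMod p) m) + (D.b : ZMod p) • allD (ZMod p) m := by
      refine extD fun g => ?_
      rw [coeff_ind_mul, D.sq, MonoidAlgebra.coeff_add, Finsupp.add_apply, MonoidAlgebra.coeff_smul_apply,
        MonoidAlgebra.coeff_smul_apply, MonoidAlgebra.one_def, MonoidAlgebra.coeff_single,
        Finsupp.single_apply]
      by_cases hg : g = 1 <;> simp [hg, allD, eq_comm]
    have hall : ∀ G : DR (ZMod p) m, allD (ZMod p) m * G = (∑ g, G.coeff g) • allD (ZMod p) m := by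
      intro G
      refine extD fun g => ?_
      rw [coeffD_mul, MonoidAlgebra.coeff_smul_apply]
      simp only [allD, coeff_ofD, one_mul, smul_eq_mul, mul_one]
      exact Equiv.sum_comp ((Equiv.inv (DihedralGroup m)).trans (Equiv.mulRight g)) (fun w => G.coeff w)
    have hind : ∀ k : ℕ, ∃ c : ZMod p,
        Fp ^ (2 * k + 1) = ((D.a : ZMod p) ^ k) • Fp + c • allD (ZMod p) m := by
      intro k
      induction k with
      | zero => exact ⟨0, by simp⟩
      | succ k ih =>
        obtain ⟨c, hc⟩ := ih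
        refine ⟨(D.a : ZMod p) ^ k * ((D.b : ZMod p) * ∑ g, Fp.coeff g)
          + c * ∑ g, (Fp * Fp).coeff g, ?_⟩
        rw [show 2 * (k + 1) + 1 = (2 * k + 1) + 2 from by omega, pow_add, hc, pow_two, add_mul,
          smul_mul_assoc, smul_mul_assoc, hall (Fp * Fp)]
        have : Fp * (Fp * Fp) = (D.a : ZMod p) • Fp
            + ((D.b : ZMod p) * ∑ g, Fp.coeff g) • allD (ZMod p) m := by
          rw [hsq2, mul_add, mul_smul_comm, mul_smul_comm, mul_one,
            show Fp * allD (ZMod p) m = allD (ZMod p) m * Fp from S.comm hFp (S.inv_const 1), hall,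
            smul_smul]
        rw [this]
        module
    obtain ⟨c, hc⟩ := hind n
    rw [← congrArg (fun k => Fp ^ k) hn, hpow] at hc
    obtain ⟨g, hg⟩ := hne
    have e1 := congrArg (fun G => G.coeff 1) hc
    have e2 := congrArg (fun G => G.coeff g) hc
    simp only [MonoidAlgebra.coeff_add, Finsupp.add_apply, MonoidAlgebra.coeff_smul_apply,
      MonoidAlgebra.coeff_zero, Finsupp.zero_apply, Fp, coeff_ind, allD, coeff_ofD, if_pos hg, if_neg h1,
      smul_eq_mul, mul_zero, mul_one, zero_add] at e1 e2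
    rw [← e1, add_zero] at e2
    rw [← ZMod.intCast_zmod_eq_zero_iff_dvd]
    exact eq_zero_of_pow_eq_zero e2.symm
  have hpd : (p : ℤ) ∣ x - y := by
    rw [← hd] at hpa
    exact (Nat.prime_iff_prime_int.1 hp.out).dvd_of_dvd_pow hpa
  -- arithmetic
  set d := x - y
  set q : ℤ := ((m / p : ℕ) : ℤ)
  have hqm : q * (p : ℤ) = (m : ℤ) := by
    rw [← Nat.cast_mul, Nat.div_mul_cancel hpm]
  have heq : 2 * (x * ((m : ℤ) - x)) = (m : ℤ) * d ^ 2 + d * ((m : ℤ) - 2 * x) := by
    have hb' : D.b = x + y - D.a := by linarith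
    rw [hb', ← hd] at hsq
    simp only [d] at *
    have : 2 * (2 * (x * ((m : ℤ) - x))) =
        2 * ((m : ℤ) * (x - y) ^ 2 + (x - y) * ((m : ℤ) - 2 * x)) := by linear_combination -hsq
    linarith
  have hd0 : d ≠ 0 := fun e => by
    rw [e] at hd
    simp only [← hd] at hbd
    nlinarith
  have hD : (p : ℤ) ≤ |d| := Int.le_of_dvd (abs_pos.2 hd0) ((dvd_abs _ _).2 hpd)
  have hp3 : (3 : ℤ) ≤ p := by have := hp.out.two_le; omega
  have hq0 : 0 < q := by
    have := Nat.div_pos (Nat.le_of_dvd (NeZero.pos m) hpm) hp.out.pos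
    simp only [q]; exact_mod_cast this
  have h2 : -(|d| * (m : ℤ)) ≤ d * ((m : ℤ) - 2 * x) := by
    have e := abs_mul d ((m : ℤ) - 2 * x)
    have e2 : |(m : ℤ) - 2 * x| ≤ (m : ℤ) := abs_le.2 ⟨by linarith, by linarith⟩
    have e3 := neg_abs_le (d * ((m : ℤ) - 2 * x))
    nlinarith [mul_le_mul_of_nonneg_left e2 (abs_nonneg d)]
  have h3 : q * (|d| * ((p : ℤ) * (|d| - 1))) < q * (|d| * (2 * |d|)) := by
    rw [← hd, ← sq_abs d] at hbd
    rw [← sq_abs d] at heq
    nlinarith [mul_pos (abs_pos.2 hd0) (abs_pos.2 hd0)]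
  have h4 := lt_of_mul_lt_mul_left (lt_of_mul_lt_mul_left h3 hq0.le) (abs_nonneg d)
  nlinarith [mul_nonneg (sub_nonneg.2 hD) (sub_nonneg.2 hp3)]

end Cfsg.Agent.P3572
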